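import Groth.Agent.Sga3.H827.ImgTorus
import Groth.Agent.Sga3B.AlgBc
import Groth.Agent.Sga3B.RG.BrMax

/-!
# The image of a maximal torus: reduction to the case of an algebraically closed field
-/

set_option autoImplicit false
universe u
open CategoryTheory MonoidalCategory CartesianMonoidalCategory MonObj GrpObj AlgebraicGeometry Limits

namespace Groth.Agent.Sga3.H827.Asm

open ImgTorus

/-- The statement over algebraically closed fields. -/
def FieldLevel : Prop :=
  ∀ {K : Type u} [Field K] [IsAlgClosed K] {G G₁ T Q : Over (Spec (CommRingCat.of K))} [GrpObj G]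
    [GrpObj G₁] [GrpObj T] [GrpObj Q] [Smooth G.hom] [QuasiCompact G.hom] [IsSeparated G.hom]
    [LocallyOfFiniteType G₁.hom] (u : G ⟶ G₁) [IsMonHom u] [Surjective u.left] (i : T ⟶ G)
    (_ : Red.IsMaximalTorus i) (p : T ⟶ Q) [IsMonHom p] [Surjective p.left] (j : Q ⟶ G₁) [IsMonHom j] [Mono j]
    (_ : Red.IsTorus Q) (_ : p ≫ j = i ≫ u), Red.IsMaximalTorus j

variable {S : Scheme.{u}} {G G' T : Over S} [GrpObj G] [GrpObj G'] [GrpObj T]

theorem exists_image (H : FieldLevel.{u}) [Smooth G.hom] [IsSeparated G.hom] [QuasiCompact G.hom]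
    [Smooth G'.hom] [IsSeparated G'.hom] (u : G ⟶ G') [IsMonHom u]
    (hu : ∀ s : S, Surjective ((Over.pullback (Red.geomPt s)).map u).left)
    (i : T ⟶ G) (hT : Red.IsMaximalTorus i) :
    ∃ (T' : Over S) (_ : GrpObj T') (i' : T' ⟶ G') (v : T ⟶ T'), Red.IsMaximalTorus i' ∧ IsMonHom v ∧
      v ≫ i' = i ≫ u ∧ Surjective v.left ∧ Flat v.left := by
  have hi : IsMonHom i := hT.1
  obtain ⟨Q, _, p, j, hp, hj, w, h1, h2, -, h4, h5⟩ := exists_image_torus (i ≫ u) hT.2.2.1
  refine ⟨Q, inferInstance, j, p, ⟨hj, h4, h5, fun s => ?_⟩, hp, w, h1, h2⟩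
  let x := Red.geomPt s
  have hG1 : Smooth (Red.bc x G).hom := inferInstanceAs (Smooth (pullback.snd _ _))
  have hG2 : IsSeparated (Red.bc x G).hom := inferInstanceAs (IsSeparated (pullback.snd _ _))
  have hG3 : QuasiCompact (Red.bc x G).hom := inferInstanceAs (QuasiCompact (pullback.snd _ _))
  have hG4 : LocallyOfFiniteType (Red.bc x G').hom := inferInstanceAs (LocallyOfFiniteType (pullback.snd _ _))
  have hus : Surjective ((Over.pullback x).map u).left := hu s
  have hps : Surjective ((Over.pullback x).map p).left :=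
    MorphismProperty.of_isPullback (H798.FpqcIso.isPullback_map_left x p) h1
  have hw : (Over.pullback x).map p ≫ (Over.pullback x).map j = (Over.pullback x).map i ≫ (Over.pullback x).map u := by
    rw [← Functor.map_comp, w, Functor.map_comp]
  have hm : Mono ((Over.pullback x).map j) := inferInstance
  have h6 : Red.IsMaximalTorus ((Over.pullback x).map j) :=
    H ((Over.pullback x).map u) ((Over.pullback x).map i)
      (Groth.Agent.Sga3B.AlgBc.isMaximalTorus_bc x hT) ((Over.pullback x).map p) ((Over.pullback x).map j)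
      (Groth.Agent.Sga3B.TorusBc.isTorus_bc x h5) hw
  exact ((Groth.Agent.Sga3B.RG.BrMax.isMaximalTorus_iff_abs _).1 h6).2.2.2

end Groth.Agent.Sga3.H827.Asm
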