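import Groth.Agent.Sga3.H827.ChartK
import Groth.Agent.S4094
import Groth.Agent.Sga3B.Trans894
import Groth.Agent.Sga3B.MT.TorusFam

/-!
# The image of a torus in a separated group scheme over an arbitrary base is a torus

`exists_image_torus`: a homomorphism `h : T ⟶ G` from a torus to a separated group scheme locally of finite type
is the composition of a faithfully flat homomorphism onto a torus and a monomorphism.
-/

set_option autoImplicit false
universe u
open CategoryTheory MonoidalCategory CartesianMonoidalCategory MonObj GrpObj AlgebraicGeometry Limits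

namespace Groth.Agent.Sga3.H827.ImgTorus

open KerData ChartQ ChartK Groth.Agent.Sga3B

variable {S : Scheme.{u}} {T G : Over S} [GrpObj T] [GrpObj G]

lemma isTorus_DS_sub (V : Scheme.{u}) {r : ℕ} (N : AddSubgroup (Fin r → ℤ)) : Red.IsTorus (Red.DS V N) := by
  have h1 : Module.Free ℤ (AddSubgroup.toIntSubmodule N) := inferInstance
  have h2 : Module.Finite ℤ (AddSubgroup.toIntSubmodule N) := inferInstance
  let e : AddSubgroup.toIntSubmodule N ≃+ N := AddEquiv.refl _
  have h3 : Module.Free ℤ N := Module.Free.of_equiv e.toIntLinearEquiv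
  have h4 : Module.Finite ℤ N := Module.Finite.equiv e.toIntLinearEquiv
  exact Trans894.isTorus_DS V N

/-- Images of tori are tori. -/
theorem isTorus_of_factor {Q : Over S} [GrpObj Q] (h : T ⟶ G) [IsMonHom h] [IsSeparated G.hom]
    [LocallyOfFiniteType G.hom] (hT : Red.IsTorus T) (p : T ⟶ Q) [IsMonHom p] (i : Q ⟶ G) [IsMonHom i] [Mono i]
    (w : p ≫ i = h) [Surjective p.left] [Flat p.left] : Red.IsTorus Q := by
  have hA := TorusAlgClosed.isAffineHom_of_isTorus hT
  have hi : Mono i.left := inferInstanceAs (Mono ((Over.forget S).map i))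
  have hsep : IsSeparated Q.hom := by
    rw [← Over.w i]
    infer_instance
  have hqc : QuasiCompact p.left := by
    have h1 : QuasiCompact (p.left ≫ Q.hom) := by
      rw [Over.w]
      infer_instance
    exact QuasiCompact.of_comp p.left Q.hom
  choose B iB v r c N hv hs hN using KerData.exists_adapted_torus h hT
  refine MT.isTorus_of_family v (fun s => inferInstance) (fun s => (v s).isOpenMap) (fun s => ⟨s, hs s⟩) fun s => ?_
  obtain ⟨e⟩ := exists_iso_image (hN s) p i w
  exact TorusBc.isTorus_of_iso e.symm (isTorus_DS_sub _ (N s))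

/-- **The image of a torus.** -/
theorem exists_image_torus (h : T ⟶ G) [IsMonHom h] [IsSeparated G.hom] [LocallyOfFiniteType G.hom]
    (hT : Red.IsTorus T) :
    ∃ (Q : Over S) (_ : GrpObj Q) (p : T ⟶ Q) (i : Q ⟶ G), IsMonHom p ∧ IsMonHom i ∧ p ≫ i = h ∧
      Surjective p.left ∧ Flat p.left ∧ LocallyOfFinitePresentation p.left ∧ Mono i ∧ Red.IsTorus Q := by
  have hsm := TorusAlgClosed.smooth_of_isTorus hT
  have hlfp : LocallyOfFinitePresentation T.hom := inferInstance
  obtain ⟨Q, _, p, i, hp, hi, w, h1, h2, h3, h4, -, -⟩ := S4094.result S T G h (flat_kernel h hT)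
  exact ⟨Q, inferInstance, p, i, hp, hi, w, h1, h2, h3, h4, isTorus_of_factor h hT p i w⟩

end Groth.Agent.Sga3.H827.ImgTorus
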