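import Groth.Agent.Sga3.H827.ChartQ
import Groth.Agent.Sga3C.FlatOfComp

/-!
# Adapted charts: flatness of the kernel
-/

set_option autoImplicit false
universe u
open CategoryTheory MonoidalCategory CartesianMonoidalCategory MonObj GrpObj AlgebraicGeometry Limits

namespace Groth.Agent.Sga3.H827.ChartK

open Groth.Agent.Sga3B.DSPts Groth.Agent.Sga3.H828.DiagChart Groth.Agent.Sga3.H828.DiagChart.Chart KerChart KerData
  ChartQ

section gen

variable {S : Scheme.{u}} {M : Type} [AddCommGroup M] (N : AddSubgroup M) {V : Scheme.{u}}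

lemma mono_DSmap {M M' : Type} [AddCommGroup M] [AddCommGroup M'] (φ : M →+ M') (hφ : Function.Surjective φ)
    (V : Scheme.{u}) : Mono (Red.DSmap V φ) := by
  constructor
  intro X a b hab
  apply (dsEquiv X M').symm.injective
  change dsChar a = dsChar b
  have h1 := congrArg dsChar hab
  rw [dsChar_DSmap, dsChar_DSmap] at h1
  refine MonoidHom.ext fun m => ?_
  obtain ⟨m', hm'⟩ := hφ m.toAdd
  have h2 := congr($h1 (Multiplicative.ofAdd m'))
  change dsChar a (Multiplicative.ofAdd (φ m')) = dsChar b (Multiplicative.ofAdd (φ m')) at h2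
  rw [hm'] at h2
  exact h2

/-- factorisation through `D(M/N)` -/
lemma exists_factor {X : Over V} (x : X ⟶ Red.DS V M) (hx : ∀ n ∈ N, dsChar x (Multiplicative.ofAdd n) = 1) :
    ∃ y : X ⟶ Red.DS V (M ⧸ N), y ≫ Red.DSmap V (QuotientAddGroup.mk' N) = x := by
  let χ : M →+ Additive Γ(X.left, ⊤)ˣ :=
    { toFun := fun m => Additive.ofMul
        ⟨dsChar x (Multiplicative.ofAdd m), dsChar x (Multiplicative.ofAdd (-m)), by
          rw [← map_mul, ← ofAdd_add, add_neg_cancel, ofAdd_zero, map_one], by
          rw [← map_mul, ← ofAdd_add, neg_add_cancel, ofAdd_zero, map_one]⟩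
      map_zero' := by
        apply Additive.toMul.injective
        ext
        exact map_one (dsChar x)
      map_add' := fun a b => by
        apply Additive.toMul.injective
        ext
        exact map_mul (dsChar x) (Multiplicative.ofAdd a) (Multiplicative.ofAdd b) }
  have hχ : ∀ n ∈ N, χ n = 0 := by
    intro n hn
    apply Additive.toMul.injective
    ext
    exact hx n hn
  let χ' : (M ⧸ N) →+ Additive Γ(X.left, ⊤)ˣ := QuotientAddGroup.lift N χ hχ
  let ψ : Multiplicative (M ⧸ N) →* Γ(X.left, ⊤) :=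
    { toFun := fun m => ((χ' m.toAdd).toMul : Γ(X.left, ⊤)ˣ).1
      map_one' := by
        change ((χ' 0).toMul : Γ(X.left, ⊤)ˣ).1 = 1
        rw [map_zero]
        rfl
      map_mul' := fun a b => by
        change ((χ' (a.toAdd + b.toAdd)).toMul : Γ(X.left, ⊤)ˣ).1 = _
        rw [map_add]
        rfl }
  refine ⟨dsEquiv X (M ⧸ N) ψ, ?_⟩
  rw [dsEquiv_DSmap]
  apply (dsEquiv X M).symm.injective
  rw [MulEquiv.symm_apply_apply]
  change _ = dsChar x
  rfl

end gen

variable {S : Scheme.{u}} {T G : Over S} [GrpObj T] [GrpObj G] {M : Type} [AddCommGroup M]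
  {V : Scheme.{u}} {v : V ⟶ S} {c : Chart T (Over.mk v) M} {h : T ⟶ G} {N : AddSubgroup M}

lemma mono_fst (h : T ⟶ G) : Mono (pullback.fst h η[G]) := by
  have : Mono (η[G] : 𝟙_ (Over S) ⟶ G) := by
    constructor
    intro Z a b _
    exact toUnit_unique _ _
  infer_instance

/-- The kernel in an adapted chart. -/
theorem exists_iso_kernel (hN : Adapted h c N) :
    Nonempty (Red.bc v (pullback h η[G]) ≅ Red.DS V (M ⧸ N)) := by
  obtain ⟨i, hi⟩ := ChartQ.exists_iso c
  have hii : IsIso i.hom.hom.hom := inferInstanceAs (IsIso ((Grp.forget _).map i.hom))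
  let a : Red.bc v (pullback h η[G]) ⟶ Red.bc v T := (Over.pullback v).map (pullback.fst h η[G])
  let b : Red.DS V (M ⧸ N) ⟶ Red.bc v T := Red.DSmap V (QuotientAddGroup.mk' N) ≫ i.hom.hom.hom
  have hma : Mono a := by
    have := mono_fst h
    exact inferInstanceAs (Mono ((Over.pullback v).map (pullback.fst h η[G])))
  have hmb : Mono b := by
    have := mono_DSmap (QuotientAddGroup.mk' N) (QuotientAddGroup.mk'_surjective N) V
    exact mono_comp _ _
  -- `a` factors through `b`
  obtain ⟨f, hf⟩ : ∃ f, f ≫ b = a := by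
    let x : (Over.map v).obj (Red.bc v (pullback h η[G])) ⟶ T := (bcEquiv v _ T).symm a
    have hx : x ≫ h = 1 := by
      apply (bcEquiv v _ G).injective
      rw [← bcEquiv_comp, MulEquiv.apply_symm_apply, map_one]
      change (Over.pullback v).map _ ≫ (Over.pullback v).map _ = 1
      rw [← Functor.map_comp, pullback.condition]
      have h1 : pullback.snd h η[G] ≫ η[G] = 1 := by
        rw [Hom.one_def]
        congr 1
        exact toUnit_unique _ _
      rw [h1]
      exact (Over.pullback v).map_one
    have hx' := (hN _ (taut v _) x).1 hx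
    let y : Red.bc v (pullback h η[G]) ⟶ Red.DS V M := dsEquiv _ M (c.chr (taut v _) x : Multiplicative M →* Γ((Red.bc v (pullback h η[G])).left, ⊤))
    have hy : ch v y = c.chr (taut v _) x := dsChar_dsEquiv _
    obtain ⟨z, hz⟩ := exists_factor N y (fun n hn => by
      have h2 := hx' n hn
      rw [← hy] at h2
      exact h2)
    refine ⟨z, ?_⟩
    change z ≫ _ ≫ _ = _
    rw [← Category.assoc, hz, hi, hy, MulEquiv.symm_apply_apply, MulEquiv.apply_symm_apply]
  -- `b` factors through `a`
  obtain ⟨g, hg⟩ : ∃ g, g ≫ a = b := by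
    let x : (Over.map v).obj (Red.DS V (M ⧸ N)) ⟶ T := (bcEquiv v _ T).symm b
    have hxc : c.chr (taut v _) x = ch v (Red.DSmap V (QuotientAddGroup.mk' N)) := by
      apply (c.chr (taut v _)).symm.injective
      apply (bcEquiv v _ T).injective
      rw [← hi, MulEquiv.symm_apply_apply, MulEquiv.apply_symm_apply]
    have hx : x ≫ h = 1 := by
      rw [hN _ (taut v _), hxc]
      intro n hn
      have h1 : (dsChar (Red.DSmap V (QuotientAddGroup.mk' N)) : Multiplicative M →* _) =
          (dsChar (𝟙 (Red.DS V (M ⧸ N)))).comp (AddMonoidHom.toMultiplicative (QuotientAddGroup.mk' N)) := by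
        have h2 := dsChar_DSmap (QuotientAddGroup.mk' N) (𝟙 (Red.DS V (M ⧸ N)))
        rwa [Category.id_comp] at h2
      change dsChar (Red.DSmap V (QuotientAddGroup.mk' N)) (Multiplicative.ofAdd n) = 1
      rw [h1]
      change dsChar (𝟙 (Red.DS V (M ⧸ N))) (Multiplicative.ofAdd (QuotientAddGroup.mk' N n)) = 1
      rw [show QuotientAddGroup.mk' N n = 0 from (QuotientAddGroup.eq_zero_iff n).2 hn]
      exact map_one _
    let l : (Over.map v).obj (Red.DS V (M ⧸ N)) ⟶ pullback h η[G] := pullback.lift x (toUnit _) (by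
      rw [hx, Hom.one_def])
    refine ⟨(Over.mapPullbackAdj v).homEquiv _ _ l, ?_⟩
    change _ ≫ (Over.pullback v).map (pullback.fst h η[G]) = b
    rw [← Adjunction.homEquiv_naturality_right, pullback.lift_fst]
    exact (bcEquiv v _ T).apply_symm_apply b
  exact ⟨⟨f, g, by rw [← cancel_mono a, Category.assoc, hg, hf, Category.id_comp],
    by rw [← cancel_mono b, Category.assoc, hf, hg, Category.id_comp]⟩⟩

theorem flat_bc_kernel (hN : Adapted h c N) : Flat (Red.bc v (pullback h η[G])).hom := by
  obtain ⟨e⟩ := exists_iso_kernel hN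
  have h1 := DSFlat.flat_DS V (M ⧸ N)
  have h2 : IsIso e.hom.left := inferInstanceAs (IsIso ((Over.forget V).map e.hom))
  rw [← Over.w e.hom]
  infer_instance

/-- The kernel of a homomorphism from a torus to a separated group scheme is flat. -/
theorem flat_kernel (h : T ⟶ G) [IsMonHom h] [IsSeparated G.hom] [LocallyOfFiniteType G.hom] (hT : Red.IsTorus T) :
    Flat (pullback h η[G]).hom := by
  choose B iB v r c N hv hs hN using KerData.exists_adapted_torus h hT
  let K := pullback h η[G]
  let f : (∐ fun s => Limits.pullback K.hom (v s)) ⟶ K.left := Sigma.desc fun s => Limits.pullback.fst K.hom (v s)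
  have hf1 : Flat f := by
    have : ∀ s, Flat (Limits.pullback.fst K.hom (v s)) := fun s => inferInstance
    exact inferInstanceAs (Flat (Sigma.desc fun s => Limits.pullback.fst K.hom (v s)))
  have hf2 : Surjective f := by
    apply Surjective.sigmaDesc_of_union_range_eq_univ
    rw [Set.eq_univ_iff_forall]
    intro k
    obtain ⟨y, hy⟩ := hs (K.hom k)
    obtain ⟨z, hz, -⟩ := Scheme.Pullback.exists_preimage_pullback (f := K.hom) (g := v (K.hom k)) k y hy.symm
    exact Set.mem_iUnion.mpr ⟨K.hom k, z, hz⟩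
  have hf3 : f ≫ K.hom = Sigma.desc fun s => Limits.pullback.snd K.hom (v s) ≫ v s := by
    apply Sigma.hom_ext
    intro s
    rw [Sigma.ι_desc, Sigma.ι_desc_assoc, Limits.pullback.condition]
  have hf4 : Flat (f ≫ K.hom) := by
    rw [hf3]
    have : ∀ s, Flat (Limits.pullback.snd K.hom (v s) ≫ v s) := by
      intro s
      have h1 : Flat (Limits.pullback.snd K.hom (v s)) := flat_bc_kernel (hN s)
      infer_instance
    infer_instance
  exact Groth.Agent.Sga3C.FlatOfComp.flat_of_comp f K.hom

end Groth.Agent.Sga3.H827.ChartK
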