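import Groth.Agent.Sga3.H827.FreeCoset
import Groth.Agent.Sga3B.DSPts
import Groth.Agent.Sga3.H798.FpqcIso
import Mathlib.AlgebraicGeometry.Morphisms.Flat
import Mathlib.RingTheory.RingHom.FaithfullyFlat

/-!
# `D(M) ⟶ D(N)` is faithfully flat for `N ≤ M`
-/

set_option autoImplicit false
universe u
open CategoryTheory MonoidalCategory CartesianMonoidalCategory MonObj GrpObj AlgebraicGeometry Limits

namespace Groth.Agent.Sga3.H827.DSFlat

variable {M N : Type} [AddCommGroup M] [AddCommGroup N] (φ : N →+ M)

lemma faithfullyFlat (R : Type u) [CommRing R] (hφ : Function.Injective φ) :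
    (MonoidAlgebra.mapDomainAlgHom R R (AddMonoidHom.toMultiplicative φ)).toRingHom.FaithfullyFlat :=
  FreeCoset.faithfullyFlat (R := R) (AddMonoidHom.toMultiplicative φ) hφ

lemma flat_surjective_diagMap (R : Type u) [CommRing R] (hφ : Function.Injective φ) :
    Flat (Red.diagMap R φ).left ∧ Surjective (Red.diagMap R φ).left :=
  (flat_and_surjective_SpecMap_iff _).2 (faithfullyFlat φ R hφ)

lemma isAffineHom_diagMap (R : Type u) [CommRing R] : IsAffineHom (Red.diagMap R φ).left := by
  change IsAffineHom (Spec.map _)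
  infer_instance

variable (S : Scheme.{u})

lemma isPullback : IsPullback (pullback.fst _ _) (Red.DSmap S φ).left (Red.diagMap (ULift.{u} ℤ) φ).left
    (pullback.fst _ _) :=
  H798.FpqcIso.isPullback_map_left (Limits.IsTerminal.from specULiftZIsTerminal S) (Red.diagMap (ULift.{u} ℤ) φ)

lemma isAffineHom_DSmap : IsAffineHom (Red.DSmap S φ).left :=
  MorphismProperty.of_isPullback (P := @IsAffineHom) (isPullback φ S) (isAffineHom_diagMap φ _)

lemma flat_DSmap (hφ : Function.Injective φ) : Flat (Red.DSmap S φ).left :=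
  MorphismProperty.of_isPullback (P := @Flat) (isPullback φ S) (flat_surjective_diagMap φ _ hφ).1

lemma surjective_DSmap (hφ : Function.Injective φ) : Surjective (Red.DSmap S φ).left :=
  MorphismProperty.of_isPullback (P := @Surjective) (isPullback φ S) (flat_surjective_diagMap φ _ hφ).2

lemma flat_DS (M : Type) [AddCommGroup M] : Flat (Red.DS S M).hom := by
  have h1 : Flat (Red.diag (ULift.{u} ℤ) M).hom := by
    change Flat (Spec.map (CommRingCat.ofHom (algebraMap (ULift.{u} ℤ) (MonoidAlgebra (ULift.{u} ℤ) (Multiplicative M)))))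
    rw [HasRingHomProperty.Spec_iff (P := @Flat)]
    change (algebraMap (ULift.{u} ℤ) (MonoidAlgebra (ULift.{u} ℤ) (Multiplicative M))).Flat
    rw [RingHom.flat_algebraMap_iff]
    infer_instance
  exact MorphismProperty.pullback_snd (P := @Flat) _ _ h1

end Groth.Agent.Sga3.H827.DSFlat
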