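import Groth.Agent.Sga3.H784.FlatDesc

/-!
# Uniqueness of fpqc quotients
-/

set_option autoImplicit false
universe u
open CategoryTheory MonoidalCategory CartesianMonoidalCategory MonObj GrpObj AlgebraicGeometry Limits

namespace Groth.Agent.Sga3.H827.UQ

open Groth.Agent.Sga3.H784.FlatDesc

variable {S : Scheme.{u}} {A B B' : Over S} [GrpObj A] [GrpObj B] [GrpObj B']

lemma eq_of_ker (p : A ⟶ B) [IsMonHom p] (p' : A ⟶ B') [IsMonHom p']
    (h : ∀ (X : Over S) (x : X ⟶ A), x ≫ p = 1 → x ≫ p' = 1) (X : Over S) (t t' : X ⟶ A)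
    (ht : t ≫ p = t' ≫ p) : t ≫ p' = t' ≫ p' := by
  have h1 : (t * t'⁻¹) ≫ p = 1 := by rw [MonObj.mul_comp, GrpObj.inv_comp, ht, mul_inv_cancel]
  have h2 := h X _ h1
  rwa [MonObj.mul_comp, GrpObj.inv_comp, mul_inv_eq_one] at h2

/-- Two fpqc quotients of a group by the same kernel are isomorphic. -/
theorem exists_iso (p : A ⟶ B) [IsMonHom p] [Surjective p.left] [Flat p.left] [QuasiCompact p.left]
    (p' : A ⟶ B') [IsMonHom p'] [Surjective p'.left] [Flat p'.left] [QuasiCompact p'.left]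
    (h : ∀ (X : Over S) (x : X ⟶ A), x ≫ p = 1 ↔ x ≫ p' = 1) :
    ∃ e : Grp.mk B ≅ Grp.mk B', p ≫ e.hom.hom.hom = p' := by
  obtain ⟨g, hg⟩ := exists_desc p p' (eq_of_ker p p' fun X x hx => (h X x).1 hx)
  obtain ⟨g', hg'⟩ := exists_desc p' p (eq_of_ker p' p fun X x hx => (h X x).2 hx)
  have he := epi_of_cover p
  have he' := epi_of_cover p'
  have h1 : g ≫ g' = 𝟙 B := by rw [← cancel_epi p, ← Category.assoc, hg, hg', Category.comp_id]
  have h2 : g' ≫ g = 𝟙 B' := by rw [← cancel_epi p', ← Category.assoc, hg', hg, Category.comp_id]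
  have hm : IsMonHom g := isMonHom_desc p g (by rw [hg]; infer_instance)
  let i : B ≅ B' := ⟨g, g', h1, h2⟩
  have hi : IsMonHom i.hom := hm
  exact ⟨Grp.mkIso' i, hg⟩

end Groth.Agent.Sga3.H827.UQ
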