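import Groth.Agent.Sga3.H827.KerData
import Groth.Agent.Sga3.H827.UQ
import Groth.Agent.Sga3.H827.DSFlat
import Groth.Agent.Sga3B.RG.BrTorus

/-!
# Adapted charts: kernel and image
-/

set_option autoImplicit false
universe u
open CategoryTheory MonoidalCategory CartesianMonoidalCategory MonObj GrpObj AlgebraicGeometry Limits

namespace Groth.Agent.Sga3.H827.ChartQ

open Groth.Agent.Sga3B.DSPts Groth.Agent.Sga3.H828.DiagChart Groth.Agent.Sga3.H828.DiagChart.Chart KerChart KerData

variable {S : Scheme.{u}} {T G Q : Over S} [GrpObj T] [GrpObj G] [GrpObj Q] {M : Type} [AddCommGroup M]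
  {V : Scheme.{u}} {v : V ⟶ S} (c : Chart T (Over.mk v) M)

/-- The chart as an isomorphism with `D(M)`. -/
theorem exists_iso :
    ∃ i : Grp.mk (Red.DS V M) ≅ Grp.mk (Red.bc v T), ∀ {Y : Over V} (y : Y ⟶ Red.DS V M),
      y ≫ i.hom.hom.hom = bcEquiv v Y T ((c.chr (taut v Y)).symm (ch v y)) := by
  have h0 : ∀ {Y : Over V} (y : Y ⟶ Red.DS V M), y ≫ hom (𝟙 T) v c = bcEquiv v Y T ((c.chr (taut v Y)).symm (ch v y)) := by
    intro Y y
    rw [comp_hom, Category.comp_id]
  obtain ⟨i, hi⟩ := exists_iso_of_points (G := Red.DS V M) (G' := Red.bc v T)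
    (fun X => ((dsEquiv X M).symm.trans (c.chr (taut v X)).symm).trans (bcEquiv v X T)) (by
      intro X Y f x
      have h1 := h0 (f ≫ x)
      rw [Category.assoc, h0 x] at h1
      exact h1.symm)
  exact ⟨i, fun y => hi _ y⟩

lemma hom_eq (i : Grp.mk (Red.DS V M) ≅ Grp.mk (Red.bc v T)) (hi : ∀ {Y : Over V} (y : Y ⟶ Red.DS V M),
      y ≫ i.hom.hom.hom = bcEquiv v Y T ((c.chr (taut v Y)).symm (ch v y))) (p : T ⟶ Q) :
    hom p v c = i.hom.hom.hom ≫ (Over.pullback v).map p := by
  have h1 := hi (𝟙 (Red.DS V M))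
  rw [Category.id_comp] at h1
  rw [h1, bcEquiv_comp]
  rfl

variable {c} {h : T ⟶ G} {N : AddSubgroup M}

/-- the kernel in terms of characters -/
lemma comp_hom_eq_one_iff (hN : Adapted h c N) (p : T ⟶ Q) [IsMonHom p] (j : Q ⟶ G) [IsMonHom j] [Mono j]
    (w : p ≫ j = h) {Y : Over V} (y : Y ⟶ Red.DS V M) :
    y ≫ hom p v c = 1 ↔ y ≫ Red.DSmap V N.subtype = 1 := by
  have h1 : y ≫ Red.DSmap V N.subtype = 1 ↔ ∀ n ∈ N, ch v y (Multiplicative.ofAdd n) = 1 := by
    rw [← (dsEquiv Y N).symm.injective.eq_iff, map_one]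
    change dsChar _ = 1 ↔ _
    rw [dsChar_DSmap]
    constructor
    · intro h0 n hn
      exact congr($h0 (Multiplicative.ofAdd ⟨n, hn⟩))
    · intro h0
      refine MonoidHom.ext fun n => ?_
      exact h0 (n.toAdd : M) n.toAdd.2
  have h2 : y ≫ hom p v c = 1 ↔ (c.chr (taut v Y)).symm (ch v y) ≫ p = 1 := by
    rw [comp_hom, map_eq_one_iff _ (bcEquiv v Y Q).injective]
  have h3 : (c.chr (taut v Y)).symm (ch v y) ≫ p = 1 ↔ (c.chr (taut v Y)).symm (ch v y) ≫ h = 1 := by
    rw [← w, ← Category.assoc]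
    constructor
    · intro h0
      rw [h0, one_comp]
    · intro h0
      rw [← cancel_mono j, h0, one_comp]
  rw [h1, h2, h3, hN _ (taut v Y), MulEquiv.apply_symm_apply]

/-- The image in an adapted chart. -/
theorem exists_iso_image (hN : Adapted h c N) (p : T ⟶ Q) [IsMonHom p] (j : Q ⟶ G) [IsMonHom j] [Mono j]
    (w : p ≫ j = h) [Surjective p.left] [Flat p.left] [QuasiCompact p.left] :
    Nonempty (Grp.mk (Red.bc v Q) ≅ Grp.mk (Red.DS V N)) := by
  obtain ⟨i, hi⟩ := exists_iso c
  have hii : IsIso i.hom.hom.hom.left := inferInstanceAs (IsIso ((Over.forget V).map ((Grp.forget _).map i.hom)))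
  have e1 := hom_eq c i hi p
  have hpb := H798.FpqcIso.isPullback_map_left v p
  have f1 : Flat ((Over.pullback v).map p).left := MorphismProperty.of_isPullback hpb ‹_›
  have f2 : Surjective ((Over.pullback v).map p).left := MorphismProperty.of_isPullback hpb ‹_›
  have f3 : QuasiCompact ((Over.pullback v).map p).left := MorphismProperty.of_isPullback hpb ‹_›
  have g1 : Flat (hom p v c).left := by rw [e1, Over.comp_left]; infer_instance
  have g2 : Surjective (hom p v c).left := by rw [e1, Over.comp_left]; infer_instance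
  have g3 : QuasiCompact (hom p v c).left := by rw [e1, Over.comp_left]; infer_instance
  have g4 : IsMonHom (hom p v c) := isMonHom_hom p v c
  have k1 : Flat (Red.DSmap V N.subtype).left := DSFlat.flat_DSmap _ V N.subtype_injective
  have k2 : Surjective (Red.DSmap V N.subtype).left := DSFlat.surjective_DSmap _ V N.subtype_injective
  have k3 : IsAffineHom (Red.DSmap V N.subtype).left := DSFlat.isAffineHom_DSmap _ V
  have k4 : IsMonHom (Red.DSmap V N.subtype) := KerLoc.isMonHom_DSmap _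
  obtain ⟨e, -⟩ := UQ.exists_iso (hom p v c) (Red.DSmap V N.subtype) fun X x => comp_hom_eq_one_iff hN p j w x
  exact ⟨e⟩

end Groth.Agent.Sga3.H827.ChartQ
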