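import Mathlib.Algebra.MonoidAlgebra.MapDomain
import Mathlib.Algebra.MonoidAlgebra.Module
import Mathlib.LinearAlgebra.Basis.Defs
import Mathlib.RingTheory.Flat.FaithfullyFlat.Basic
import Mathlib.GroupTheory.QuotientGroup.Basic
import Mathlib.GroupTheory.Coset.Basic

/-!
# Group algebras are free over the group algebras of subgroups
-/

set_option autoImplicit false

namespace Groth.Agent.Sga3.H827.FreeCoset

variable {R : Type*} [CommRing R] {Γ Γ' : Type*} [CommGroup Γ] [CommGroup Γ'] (f : Γ' →* Γ)

/-- `R[Γ]` as an `R[Γ']`-algebra -/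
@[reducible] noncomputable def alg : Algebra (MonoidAlgebra R Γ') (MonoidAlgebra R Γ) :=
  (MonoidAlgebra.mapDomainRingHom R f).toAlgebra

/-- the bijection `(Γ / Γ') × Γ' ≃ Γ` -/
noncomputable def cosetEquiv (hf : Function.Injective f) : (Γ ⧸ f.range) × Γ' ≃ Γ :=
  Equiv.ofBijective (fun x => x.1.out * f x.2) (by
    constructor
    · rintro ⟨a, x⟩ ⟨b, y⟩ h
      change a.out * f x = b.out * f y at h
      have hab : a = b := by
        have h1 : (QuotientGroup.mk (a.out * f x) : Γ ⧸ f.range) = QuotientGroup.mk (b.out * f y) := by rw [h]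
        rw [QuotientGroup.mk_mul_of_mem _ (MonoidHom.mem_range.2 ⟨x, rfl⟩),
          QuotientGroup.mk_mul_of_mem _ (MonoidHom.mem_range.2 ⟨y, rfl⟩)] at h1
        simpa using h1
      subst hab
      rw [mul_left_cancel_iff] at h
      rw [hf h]
    · intro g
      have h1 : (QuotientGroup.mk (Quotient.out (QuotientGroup.mk g : Γ ⧸ f.range)) : Γ ⧸ f.range) = QuotientGroup.mk g :=
        Quotient.out_eq _
      rw [QuotientGroup.eq] at h1
      obtain ⟨x, hx⟩ := h1
      exact ⟨⟨QuotientGroup.mk g, x⟩, by change _ * f x = g; rw [hx, mul_inv_cancel_left]⟩)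

lemma cosetEquiv_apply (hf : Function.Injective f) (c : Γ ⧸ f.range) (x : Γ') :
    cosetEquiv f hf (c, x) = c.out * f x := rfl

/-- the additive isomorphism `⊕ R[Γ'] ≃ R[Γ]` -/
noncomputable def addEquiv (hf : Function.Injective f) :
    ((Γ ⧸ f.range) →₀ MonoidAlgebra R Γ') ≃+ MonoidAlgebra R Γ :=
  ((Finsupp.mapRange.addEquiv (MonoidAlgebra.coeffAddEquiv (R := R) (M := Γ'))).trans
    ((Finsupp.curryAddEquiv (α := Γ ⧸ f.range) (β := Γ') (M := R)).symm)).trans
      ((Finsupp.domCongr (cosetEquiv f hf)).trans (MonoidAlgebra.coeffAddEquiv (R := R) (M := Γ)).symm)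

lemma addEquiv_single (hf : Function.Injective f) (c : Γ ⧸ f.range) (x : Γ') (r : R) :
    addEquiv f hf (Finsupp.single c (MonoidAlgebra.single x r)) = MonoidAlgebra.single (c.out * f x) r := by
  have h1 : (Finsupp.mapRange.addEquiv (MonoidAlgebra.coeffAddEquiv (R := R) (M := Γ')))
      (Finsupp.single c (MonoidAlgebra.single x r)) = Finsupp.single c (Finsupp.single x r) := by
    simp
  have h2 : (Finsupp.curryAddEquiv (α := Γ ⧸ f.range) (β := Γ') (M := R)).symm (Finsupp.single c (Finsupp.single x r)) =
      Finsupp.single (c, x) r := by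
    rw [AddEquiv.symm_apply_eq, Finsupp.coe_curryAddEquiv, Finsupp.curry_single]
  rw [addEquiv, AddEquiv.trans_apply, AddEquiv.trans_apply, AddEquiv.trans_apply, h1, h2,
    Finsupp.domCongr_apply, Finsupp.equivMapDomain_single, cosetEquiv_apply, AddEquiv.symm_apply_eq]
  rfl

lemma addEquiv_smul (hf : Function.Injective f) (a : MonoidAlgebra R Γ') (x : (Γ ⧸ f.range) →₀ MonoidAlgebra R Γ') :
    addEquiv f hf (a • x) = MonoidAlgebra.mapDomainRingHom R f a * addEquiv f hf x := by
  induction x using Finsupp.induction_linear with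
  | zero => simp
  | add x y hx hy => rw [smul_add, map_add, map_add, mul_add, hx, hy]
  | single c y =>
    rw [Finsupp.smul_single, smul_eq_mul]
    induction y using MonoidAlgebra.induction_linear with
    | zero => simp
    | add x y hx hy => rw [mul_add, Finsupp.single_add, Finsupp.single_add, map_add, map_add, mul_add, hx, hy]
    | single m r =>
      induction a using MonoidAlgebra.induction_linear with
      | zero => simp
      | add a b ha hb => rw [add_mul, Finsupp.single_add, map_add, map_add, add_mul, ha, hb]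
      | single n s =>
        rw [MonoidAlgebra.single_mul_single, addEquiv_single, addEquiv_single]
        simp only [MonoidAlgebra.mapDomainRingHom_apply, MonoidAlgebra.mapDomain_single,
          MonoidAlgebra.single_mul_single, map_mul]
        congr 1
        rw [mul_left_comm]

/-- **Freeness.** -/
theorem free (hf : Function.Injective f) :
    letI := alg (R := R) f
    Module.Free (MonoidAlgebra R Γ') (MonoidAlgebra R Γ) := by
  let _ := alg (R := R) f
  exact Module.Free.of_equiv ({ addEquiv f hf with
    map_smul' := fun a x => addEquiv_smul f hf a x } : ((Γ ⧸ f.range) →₀ MonoidAlgebra R Γ') ≃ₗ[MonoidAlgebra R Γ'] MonoidAlgebra R Γ)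

theorem faithfullyFlat (hf : Function.Injective f) :
    letI := alg (R := R) f
    Module.FaithfullyFlat (MonoidAlgebra R Γ') (MonoidAlgebra R Γ) := by
  let _ := alg (R := R) f
  have := Module.FaithfullyFlat.of_linearEquiv (MonoidAlgebra R Γ') ((Γ ⧸ f.range) →₀ MonoidAlgebra R Γ')
    ({ addEquiv f hf with
      map_smul' := fun a x => addEquiv_smul f hf a x } : ((Γ ⧸ f.range) →₀ MonoidAlgebra R Γ') ≃ₗ[MonoidAlgebra R Γ'] MonoidAlgebra R Γ).symm
  exact this

end Groth.Agent.Sga3.H827.FreeCoset
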