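import Mathlib.RingTheory.Flat.Basic
import Mathlib.LinearAlgebra.Basis.VectorSpace
import Mathlib.Algebra.MonoidAlgebra.Basic
import Mathlib.RingTheory.Ideal.Maps
import Mathlib.RingTheory.TensorProduct.Basic

/-!
# Linear independence of group-like elements, without coalgebra structure

`linearIndepOn_of_diag`: `κ` a field, `Q` a `κ`-algebra, `u : Γ → Q` a family of nonzero elements such that
every linear relation `∑ c_m u m = 0` implies `∑ c_m u m ⊗ u m = 0`.  If `u` is injective on a finite set `F`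
then the `u m`, `m ∈ F`, are linearly independent.
-/

set_option autoImplicit false
universe u v
open TensorProduct

namespace Groth.Agent.Sga3.H827.GrpLike

variable {κ : Type u} [Field κ] {Q : Type v} [CommRing Q] [Algebra κ Q] {Γ : Type*} (u : Γ → Q)

/-- If `v i` are linearly independent and `∑ v i ⊗ w i = 0` then all `w i` vanish. -/
lemma eq_zero_of_sum_tmul {ι : Type*} (s : Finset ι) (v w : ι → Q) (hv : LinearIndepOn κ v (s : Set ι))
    (h : ∑ i ∈ s, w i ⊗ₜ[κ] v i = 0) : ∀ i ∈ s, w i = 0 := by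
  classical
  intro i hi
  have h4 : LinearIndependent κ (fun i : (s : Set ι) => v i.1) := hv
  -- a functional dual to `v i`
  obtain ⟨f, hf⟩ := LinearMap.exists_extend
    ((Finsupp.lapply (⟨i, hi⟩ : (s : Set ι)) : _ →ₗ[κ] κ) ∘ₗ (h4.repr : _ →ₗ[κ] _))
  have hf' : ∀ j ∈ s, f (v j) = if j = i then 1 else 0 := by
    intro j hj
    have hm : v j ∈ Submodule.span κ (Set.range fun i : (s : Set ι) => v i.1) :=
      Submodule.subset_span ⟨⟨j, hj⟩, rfl⟩
    have h6 := congr($hf ⟨v j, hm⟩)
    simp only [LinearMap.comp_apply, Submodule.subtype_apply, LinearEquiv.coe_coe, Finsupp.lapply_apply] at h6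
    rw [h6, h4.repr_eq_single ⟨j, hj⟩ _ rfl, Finsupp.single_apply]
    by_cases hji : j = i
    · subst hji; simp
    · rw [if_neg hji, if_neg]
      intro h7
      exact hji (congrArg Subtype.val h7)
  have h5 := congrArg ((TensorProduct.rid κ Q).toLinearMap ∘ₗ TensorProduct.map LinearMap.id f) h
  rw [map_sum, map_zero] at h5
  have h6 : ∀ j ∈ s, ((TensorProduct.rid κ Q).toLinearMap ∘ₗ TensorProduct.map LinearMap.id f) (w j ⊗ₜ[κ] v j) =
      if j = i then w i else 0 := by
    intro j hj
    simp only [LinearMap.comp_apply, TensorProduct.map_tmul, LinearMap.id_apply, LinearEquiv.coe_coe,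
      TensorProduct.rid_tmul, hf' j hj]
    by_cases hji : j = i
    · subst hji; simp
    · simp [hji]
  rw [Finset.sum_congr rfl h6, Finset.sum_ite_eq' s i fun _ => w i, if_pos hi] at h5
  exact h5

theorem linearIndepOn_of_diag (hu0 : ∀ m, u m ≠ 0)
    (hdiag : ∀ (F : Finset Γ) (c : Γ → κ), ∑ m ∈ F, c m • u m = 0 → ∑ m ∈ F, c m • (u m ⊗ₜ[κ] u m) = 0)
    (F : Finset Γ) (hF : Set.InjOn u (F : Set Γ)) : LinearIndepOn κ u (F : Set Γ) := by
  classical
  induction F using Finset.induction_on with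
  | empty => simp
  | insert a F ha ih =>
    have hF' : Set.InjOn u (F : Set Γ) := hF.mono (by simp)
    have hind := ih hF'
    rw [Finset.coe_insert, linearIndepOn_insert (by simpa using ha)]
    refine ⟨hind, fun hmem => ?_⟩
    obtain ⟨c, hc⟩ : ∃ c : Γ → κ, ∑ m ∈ F, c m • u m = u a := by
      rw [Submodule.mem_span_image_finset_iff_exists_fun] at hmem
      obtain ⟨c, hc⟩ := hmem
      refine ⟨fun m => if hm : m ∈ F then c ⟨m, hm⟩ else 0, ?_⟩
      rw [← hc, ← Finset.sum_coe_sort]
      exact Finset.sum_congr rfl fun m _ => by simp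
    -- the relation `u a - ∑ c m • u m = 0`
    let c' : Γ → κ := fun m => if m = a then -1 else c m
    have hrel : ∑ m ∈ insert a F, c' m • u m = 0 := by
      rw [Finset.sum_insert ha]
      have h1 : ∑ m ∈ F, c' m • u m = ∑ m ∈ F, c m • u m :=
        Finset.sum_congr rfl fun m hm => by
          have : m ≠ a := fun h => ha (h ▸ hm)
          simp [c', this]
      rw [h1, hc]
      simp [c']
    have h2 := hdiag _ _ hrel
    rw [Finset.sum_insert ha] at h2
    have h3 : ∑ m ∈ F, c' m • (u m ⊗ₜ[κ] u m) = ∑ m ∈ F, c m • (u m ⊗ₜ[κ] u m) :=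
      Finset.sum_congr rfl fun m hm => by
        have : m ≠ a := fun h => ha (h ▸ hm)
        simp [c', this]
    rw [h3] at h2
    have h4 : u a ⊗ₜ[κ] u a = ∑ m ∈ F, c m • (u m ⊗ₜ[κ] u m) := by
      have : c' a = -1 := by simp [c']
      rw [this, neg_one_smul] at h2
      exact (neg_add_eq_zero.1 h2)
    have h5 : u a ⊗ₜ[κ] u a = ∑ m ∈ F, c m • (u a ⊗ₜ[κ] u m) := by
      have h5' : u a ⊗ₜ[κ] u a = u a ⊗ₜ[κ] (∑ m ∈ F, c m • u m) := by rw [hc]
      rw [h5', TensorProduct.tmul_sum]
      exact Finset.sum_congr rfl fun m _ => by rw [TensorProduct.tmul_smul]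
    have h6 : ∑ m ∈ F, (c m • (u m - u a)) ⊗ₜ[κ] u m = 0 := by
      have : ∀ m ∈ F, (c m • (u m - u a)) ⊗ₜ[κ] u m = c m • (u m ⊗ₜ[κ] u m) - c m • (u a ⊗ₜ[κ] u m) := by
        intro m _
        rw [TensorProduct.smul_tmul', TensorProduct.smul_tmul', ← TensorProduct.sub_tmul, smul_sub]
      rw [Finset.sum_congr rfl this, Finset.sum_sub_distrib, ← h4, ← h5, sub_self]
    have h7 := eq_zero_of_sum_tmul F u (fun m => c m • (u m - u a)) hind h6
    have h8 : ∀ m ∈ F, c m = 0 := by
      intro m hm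
      rcases smul_eq_zero.1 (h7 m hm) with h | h
      · exact h
      · exfalso
        rw [sub_eq_zero] at h
        have := hF (by simp [hm]) (by simp) h
        exact ha (this ▸ hm)
    apply hu0 a
    rw [← hc]
    exact Finset.sum_eq_zero fun m hm => by rw [h8 m hm, zero_smul]

end Groth.Agent.Sga3.H827.GrpLike
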