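import Groth.Agent.Sga3.H827.GrpLike
import Mathlib.Algebra.MonoidAlgebra.MapDomain
import Mathlib.GroupTheory.QuotientGroup.Basic
import Mathlib.RingTheory.Ideal.Quotient.Operations

/-!
# Kernels of homomorphisms from diagonalisable groups: the case of a field

`J` is an ideal of `C[Γ]` such that the characters `χ : Γ → E` (`E` a `C`-algebra) killing `J` are closed under
multiplication and contain the trivial character.  Over a field `κ` the ideal generated by `J` in `κ[Γ]` is generated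
by the `n - 1`, `n` in a subgroup `N` (`exists_subgroup`).
-/

set_option autoImplicit false
universe u
open TensorProduct

namespace Groth.Agent.Sga3.H827.KerAlg1

open GrpLike

section defs

variable (C : Type u) [CommRing C] (E : Type u) [CommRing E] [Algebra C E] {Γ : Type} [CommGroup Γ]

/-- the map `C[Γ] → E[Γ/N]` -/
noncomputable def red (N : Subgroup Γ) : MonoidAlgebra C Γ →ₐ[C] MonoidAlgebra E (Γ ⧸ N) :=
  MonoidAlgebra.lift C _ Γ ((MonoidAlgebra.of E (Γ ⧸ N)).comp (QuotientGroup.mk' N))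

lemma red_single (N : Subgroup Γ) (m : Γ) (c : C) :
    red C E N (MonoidAlgebra.single m c) = MonoidAlgebra.single (QuotientGroup.mk' N m) (algebraMap C E c) := by
  rw [red, MonoidAlgebra.lift_single]
  change c • (MonoidAlgebra.single (QuotientGroup.mk' N m) (1 : E)) = _
  rw [MonoidAlgebra.smul_single, Algebra.smul_def, mul_one]

/-- `J` maps to zero in `E[Γ/N]` -/
def Triv (J : Ideal (MonoidAlgebra C Γ)) (N : Subgroup Γ) : Prop := ∀ x ∈ J, red C E N x = 0

/-- the ideal of `E[Γ]` generated by `J` -/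
noncomputable def JE (J : Ideal (MonoidAlgebra C Γ)) : Ideal (MonoidAlgebra E Γ) :=
  J.map (MonoidAlgebra.mapRingHom Γ (algebraMap C E))

end defs

variable {C : Type u} [CommRing C] {Γ : Type} [CommGroup Γ]

/-- the characters killing `J` are closed under products and contain the trivial character -/
structure IsKer (J : Ideal (MonoidAlgebra C Γ)) : Prop where
  one : ∀ x ∈ J, MonoidAlgebra.lift C C Γ 1 x = 0
  mul : ∀ (E : Type u) [CommRing E] [Algebra C E] (χ₁ χ₂ : Γ →* E),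
    (∀ x ∈ J, MonoidAlgebra.lift C E Γ χ₁ x = 0) → (∀ x ∈ J, MonoidAlgebra.lift C E Γ χ₂ x = 0) →
      ∀ x ∈ J, MonoidAlgebra.lift C E Γ (χ₁ * χ₂) x = 0

variable {J : Ideal (MonoidAlgebra C Γ)}

lemma lift_algebraMap {E E' : Type u} [CommRing E] [Algebra C E] [CommRing E'] [Algebra C E'] [Algebra E E']
    [IsScalarTower C E E'] (χ : Γ →* E') (x : MonoidAlgebra C Γ) :
    MonoidAlgebra.lift E E' Γ χ (MonoidAlgebra.mapRingHom Γ (algebraMap C E) x) = MonoidAlgebra.lift C E' Γ χ x := by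
  induction x using MonoidAlgebra.induction_linear with
  | zero => simp
  | add x y hx hy => rw [map_add, map_add, map_add, hx, hy]
  | single m c =>
    rw [MonoidAlgebra.mapRingHom_single, MonoidAlgebra.lift_single, MonoidAlgebra.lift_single, algebraMap_smul]

section field

variable {κ : Type u} [Field κ] [Algebra C κ] {Q : Type u} [CommRing Q] [Algebra κ Q] [Algebra C Q]
  [IsScalarTower C κ Q]

/-- `u` kills `J`. -/
lemma lift_eq_zero (u : Γ →* Q) (hu : ∀ x ∈ JE C κ J, MonoidAlgebra.lift κ Q Γ u x = 0) (x : MonoidAlgebra C Γ)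
    (hx : x ∈ J) : MonoidAlgebra.lift C Q Γ u x = 0 := by
  rw [← lift_algebraMap (E := κ)]
  exact hu _ (Ideal.mem_map_of_mem _ hx)

/-- conversely -/
lemma lift_eq_zero' (u : Γ →* Q) (hu : ∀ x ∈ J, MonoidAlgebra.lift C Q Γ u x = 0) (x : MonoidAlgebra κ Γ)
    (hx : x ∈ JE C κ J) : MonoidAlgebra.lift κ Q Γ u x = 0 := by
  have hψ : JE C κ J ≤ RingHom.ker (MonoidAlgebra.lift κ Q Γ u) := by
    rw [JE, Ideal.map_le_iff_le_comap]
    intro x hx
    rw [Ideal.mem_comap, RingHom.mem_ker, lift_algebraMap]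
    exact hu x hx
  exact hψ hx

lemma lift_comp_eq {Q' : Type u} [CommRing Q'] [Algebra C Q'] (f : Q →ₐ[C] Q') (u : Γ →* Q)
    (x : MonoidAlgebra C Γ) :
    MonoidAlgebra.lift C Q' Γ ((f : Q →* Q').comp u) x = f (MonoidAlgebra.lift C Q Γ u x) := by
  have : MonoidAlgebra.lift C Q' Γ ((f : Q →* Q').comp u) = f.comp (MonoidAlgebra.lift C Q Γ u) := by
    ext m; simp
  rw [this]; rfl

/-- If `u : Γ → Q` kills `J` so does `u ⊗ u`. -/
lemma lift_diag (hJ : IsKer J) (u : Γ →* Q) (hu : ∀ x ∈ J, MonoidAlgebra.lift C Q Γ u x = 0)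
    (w : Γ →* Q ⊗[κ] Q) (hw : ∀ m, w m = u m ⊗ₜ[κ] u m) :
    ∀ x ∈ J, MonoidAlgebra.lift C (Q ⊗[κ] Q) Γ w x = 0 := by
  let l : Q →ₐ[C] Q ⊗[κ] Q := (Algebra.TensorProduct.includeLeft : Q →ₐ[κ] Q ⊗[κ] Q).restrictScalars C
  let r : Q →ₐ[C] Q ⊗[κ] Q := (Algebra.TensorProduct.includeRight : Q →ₐ[κ] Q ⊗[κ] Q).restrictScalars C
  have hw' : w = (l : Q →* Q ⊗[κ] Q).comp u * (r : Q →* Q ⊗[κ] Q).comp u := by
    ext m
    rw [hw, MonoidHom.mul_apply]
    change _ = (u m ⊗ₜ[κ] (1 : Q)) * ((1 : Q) ⊗ₜ[κ] u m)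
    rw [Algebra.TensorProduct.tmul_mul_tmul, mul_one, one_mul]
  rw [hw']
  apply hJ.mul
  · intro x hx
    rw [lift_comp_eq, hu x hx, map_zero]
  · intro x hx
    rw [lift_comp_eq, hu x hx, map_zero]

lemma linearIndepOn_kerLift [Nontrivial Q] (hJ : IsKer J) (u : Γ →* Q)
    (hu : ∀ x ∈ J, MonoidAlgebra.lift C Q Γ u x = 0)
    (hker : ∀ x : MonoidAlgebra κ Γ, MonoidAlgebra.lift κ Q Γ u x = 0 → x ∈ JE C κ J)
    {N : Subgroup Γ} (ub : Γ ⧸ N →* Q) (hub : ∀ m, ub (QuotientGroup.mk' N m) = u m)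
    (hinj : Function.Injective ub) (F : Finset (Γ ⧸ N)) : LinearIndepOn κ ub (F : Set (Γ ⧸ N)) := by
  classical
  obtain ⟨o, ho⟩ : ∃ o : Γ ⧸ N → Γ, ∀ m, QuotientGroup.mk' N (o m) = m :=
    ⟨_, fun m => (QuotientGroup.mk'_surjective N m).choose_spec⟩
  have hub' : ∀ m : Γ ⧸ N, ub m = u (o m) := by
    intro m
    rw [← hub, ho]
  have hu0 : ∀ m, ub m ≠ 0 := by
    intro m h
    have h1 : u (o m) * u (o m)⁻¹ = 1 := by rw [← map_mul, mul_inv_cancel, map_one]
    rw [← hub', h, zero_mul] at h1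
    exact zero_ne_one h1
  refine linearIndepOn_of_diag ub hu0 ?_ F hinj.injOn
  intro F c hc
  let w : Γ →* Q ⊗[κ] Q :=
    { toFun := fun m => u m ⊗ₜ[κ] u m
      map_one' := by rw [map_one]; rfl
      map_mul' := fun a b => by rw [map_mul, Algebra.TensorProduct.tmul_mul_tmul] }
  have hw : ∀ m, w m = u m ⊗ₜ[κ] u m := fun m => rfl
  have h1 : (∑ m ∈ F, MonoidAlgebra.single (o m) (c m) : MonoidAlgebra κ Γ) ∈ JE C κ J := by
    apply hker
    rw [map_sum, ← hc]
    refine Finset.sum_congr rfl fun m _ => ?_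
    rw [MonoidAlgebra.lift_single, hub']
  have h2 := lift_eq_zero' w (lift_diag hJ u hu w hw) _ h1
  rw [map_sum] at h2
  rw [← h2]
  refine Finset.sum_congr rfl fun m _ => ?_
  rw [MonoidAlgebra.lift_single, hw, hub']

lemma lift_red {N : Subgroup Γ} (u : Γ →* Q) (ub : Γ ⧸ N →* Q) (hub : ∀ m, ub (QuotientGroup.mk' N m) = u m)
    (x : MonoidAlgebra C Γ) :
    MonoidAlgebra.lift κ Q (Γ ⧸ N) ub (red C κ N x) = MonoidAlgebra.lift C Q Γ u x := by
  induction x using MonoidAlgebra.induction_linear with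
  | zero => simp
  | add x y hx hy => rw [map_add, map_add, map_add, hx, hy]
  | single m c =>
    rw [red_single, MonoidAlgebra.lift_single, MonoidAlgebra.lift_single, algebraMap_smul, hub]

lemma triv_ker [Nontrivial Q] (hJ : IsKer J) (u : Γ →* Q)
    (hu : ∀ x ∈ J, MonoidAlgebra.lift C Q Γ u x = 0)
    (hker : ∀ x : MonoidAlgebra κ Γ, MonoidAlgebra.lift κ Q Γ u x = 0 → x ∈ JE C κ J)
    {N : Subgroup Γ} (ub : Γ ⧸ N →* Q) (hub : ∀ m, ub (QuotientGroup.mk' N m) = u m)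
    (hinj : Function.Injective ub) : Triv C κ J N := by
  classical
  intro x hx
  have h1 : MonoidAlgebra.lift κ Q (Γ ⧸ N) ub (red C κ N x) = 0 := by
    rw [lift_red u ub hub, hu x hx]
  generalize red C κ N x = y at h1
  have h3 := linearIndepOn_kerLift hJ u hu hker ub hub hinj y.coeff.support
  rw [linearIndepOn_finset_iff] at h3
  have h4 : ∑ m ∈ y.coeff.support, y.coeff m • ub m = 0 := by
    rw [← h1, MonoidAlgebra.lift_apply]
    rfl
  have h5 := h3 _ h4
  apply MonoidAlgebra.ext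
  ext m
  by_cases hm : m ∈ y.coeff.support
  · exact h5 m hm
  · simpa using hm

/-- the induced map on the quotient by the kernel -/
lemma exists_kerLift (u : Γ →* Q) :
    ∃ (N : Subgroup Γ) (ub : Γ ⧸ N →* Q), (∀ m, m ∈ N ↔ u m = 1) ∧ (∀ m, ub (QuotientGroup.mk' N m) = u m) ∧
      Function.Injective ub := by
  let N : Subgroup Γ :=
    { carrier := {m | u m = 1}
      one_mem' := map_one u
      mul_mem' := fun {a b} ha hb => by
        change u _ = 1
        change u _ = 1 at ha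
        change u _ = 1 at hb
        rw [map_mul, ha, hb, mul_one]
      inv_mem' := fun {a} ha => by
        change u _ = 1
        change u _ = 1 at ha
        have h1 : u a * u a⁻¹ = 1 := by rw [← map_mul, mul_inv_cancel, map_one]
        rwa [ha, one_mul] at h1 }
  have hN : ∀ m, m ∈ N ↔ u m = 1 := fun m => Iff.rfl
  let ub : Γ ⧸ N →* Q := QuotientGroup.lift N u (fun m hm => hm)
  have hub : ∀ m, ub (QuotientGroup.mk' N m) = u m := fun m => rfl
  refine ⟨N, ub, hN, hub, ?_⟩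
  intro a b hab
  obtain ⟨a, rfl⟩ := QuotientGroup.mk'_surjective N a
  obtain ⟨b, rfl⟩ := QuotientGroup.mk'_surjective N b
  rw [hub, hub] at hab
  refine (QuotientGroup.eq (s := N)).2 ?_
  rw [hN, map_mul, ← hab, ← map_mul, inv_mul_cancel, map_one]

lemma exists_subgroup_aux [Nontrivial Q] (hJ : IsKer J) (u : Γ →* Q)
    (hu' : ∀ x : MonoidAlgebra κ Γ, MonoidAlgebra.lift κ Q Γ u x = 0 ↔ x ∈ JE C κ J) :
    ∃ N : Subgroup Γ, Triv C κ J N ∧ ∀ n ∈ N, (MonoidAlgebra.single n 1 - 1 : MonoidAlgebra κ Γ) ∈ JE C κ J := by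
  obtain ⟨N, ub, hN, hub, hinj⟩ := exists_kerLift u
  refine ⟨N, triv_ker (κ := κ) hJ u (fun x hx => lift_eq_zero u (fun x hx => (hu' x).2 hx) x hx)
    (fun x hx => (hu' x).1 hx) ub hub hinj, fun n hn => ?_⟩
  rw [← hu', map_sub, map_one, sub_eq_zero, MonoidAlgebra.lift_single, one_smul]
  exact (hN n).1 hn

variable (κ) in
lemma JE_ne_top (hJ : IsKer J) : JE C κ J ≠ ⊤ := by
  intro h
  have h2 := lift_eq_zero' (κ := κ) (Q := κ) (J := J) 1 (fun x hx => by
    have : MonoidAlgebra.lift C κ Γ 1 x = algebraMap C κ (MonoidAlgebra.lift C C Γ 1 x) := by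
      have h3 := lift_comp_eq (Q := C) (Q' := κ) (Algebra.ofId C κ) (1 : Γ →* C) x
      have h4 : ((Algebra.ofId C κ : C →ₐ[C] κ) : C →* κ).comp (1 : Γ →* C) = 1 := by
        ext; simp
      rw [h4] at h3
      exact h3
    rw [this, hJ.one x hx, map_zero]) 1 (h ▸ Submodule.mem_top)
  rw [map_one] at h2
  exact one_ne_zero h2

variable (κ) in
theorem exists_subgroup (hJ : IsKer J) :
    ∃ N : Subgroup Γ, Triv C κ J N ∧ ∀ n ∈ N, (MonoidAlgebra.single n 1 - 1 : MonoidAlgebra κ Γ) ∈ JE C κ J := by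
  have hQ : Nontrivial (MonoidAlgebra κ Γ ⧸ JE C κ J) := Ideal.Quotient.nontrivial_iff.2 (JE_ne_top κ hJ)
  refine exists_subgroup_aux (Q := MonoidAlgebra κ Γ ⧸ JE C κ J) hJ
    ((Ideal.Quotient.mk (JE C κ J) : MonoidAlgebra κ Γ →* _).comp (MonoidAlgebra.of κ Γ)) fun x => ?_
  have hmk : MonoidAlgebra.lift κ (MonoidAlgebra κ Γ ⧸ JE C κ J) Γ
      ((Ideal.Quotient.mk (JE C κ J) : MonoidAlgebra κ Γ →* _).comp (MonoidAlgebra.of κ Γ)) =
      Ideal.Quotient.mkₐ κ (JE C κ J) := by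
    apply MonoidAlgebra.algHom_ext
    · intro m
      rw [MonoidAlgebra.lift_single, one_smul]
      rfl
    · exact Subsingleton.elim _ _
  rw [hmk]
  exact Ideal.Quotient.eq_zero_iff_mem

end field

end Groth.Agent.Sga3.H827.KerAlg1
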