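import Mathlib.RingTheory.Filtration
import Mathlib.GroupTheory.FiniteAbelian.Basic
import Mathlib.GroupTheory.Index
import Mathlib.Algebra.Module.Torsion.Basic
import Mathlib.RingTheory.PrincipalIdealDomain
import Mathlib.Algebra.EuclideanDomain.Int
import Mathlib.RingTheory.Finiteness.Basic
import Mathlib.GroupTheory.QuotientGroup.Basic

/-!
# Finitely generated commutative groups are residually finite (relative form)
-/

set_option autoImplicit false

namespace Groth.Agent.Sga3.H827.ResFin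

/-- A nonzero element `x` of a finitely generated abelian group is not a `k`-th multiple for some `k ≠ 0`. -/
lemma exists_notMem_smul {A : Type*} [AddCommGroup A] [Module.Finite ℤ A] {x : A} (hx : x ≠ 0) :
    ∃ k : ℤ, k ≠ 0 ∧ ∀ y : A, k • y ≠ x := by
  have h1 : Ideal.torsionOf ℤ A x ≠ ⊤ := by
    intro h
    rw [Ideal.torsionOf_eq_top_iff] at h
    exact hx h
  obtain ⟨I, hI, hle⟩ := Ideal.exists_le_maximal _ h1
  have h2 : x ∉ (⨅ i : ℕ, I ^ i • ⊤ : Submodule ℤ A) := by
    intro h
    rw [Ideal.mem_iInf_smul_pow_eq_bot_iff] at h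
    obtain ⟨r, hr⟩ := h
    apply hI.ne_top
    rw [Ideal.eq_top_iff_one]
    have h3 : (1 - (r : ℤ)) ∈ Ideal.torsionOf ℤ A x := by
      rw [Ideal.mem_torsionOf_iff, sub_smul, hr, one_smul, sub_self]
    have h4 := I.add_mem (hle h3) r.2
    simpa using h4
  rw [Submodule.mem_iInf, not_forall] at h2
  obtain ⟨i, hi⟩ := h2
  obtain ⟨k, hk⟩ := (IsPrincipalIdealRing.principal (I ^ i)).principal
  have hIbot : I ≠ ⊥ := fun h => by
    subst h
    have h2 : (Ideal.span {(2 : ℤ)}) = ⊤ := by
      by_contra h3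
      have h4 := hI.eq_of_le h3 bot_le
      have h5 : (2 : ℤ) ∈ (⊥ : Ideal ℤ) := by
        rw [h4]; exact Ideal.mem_span_singleton_self _
      simp at h5
    rw [Ideal.span_singleton_eq_top, Int.isUnit_iff] at h2
    omega
  refine ⟨k, ?_, ?_⟩
  · rintro rfl
    have : I ^ i = ⊥ := by rw [hk]; simp
    exact hIbot (eq_bot_iff.2 fun a ha => by
      have h6 : a ^ i ∈ I ^ i := Ideal.pow_mem_pow ha i
      rw [this, Ideal.mem_bot] at h6
      rw [Ideal.mem_bot]
      exact eq_zero_of_pow_eq_zero h6)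
  · rintro y rfl
    apply hi
    apply Submodule.smul_mem_smul _ Submodule.mem_top
    rw [hk]
    exact Submodule.mem_span_singleton_self k

/-- In a finitely generated commutative group every subgroup is an intersection of subgroups of finite index. -/
theorem exists_finite_quotient {Γ : Type*} [CommGroup Γ] [Group.FG Γ] {N : Subgroup Γ} {n : Γ} (hn : n ∉ N) :
    ∃ P : Subgroup Γ, Finite (Γ ⧸ P) ∧ n ∉ N ⊔ P := by
  have h1 : Module.Finite ℤ (Additive (Γ ⧸ N)) :=
    Module.Finite.iff_addGroup_fg.mpr (GroupFG.iff_add_fg.mp inferInstance)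
  have hx : Additive.ofMul (QuotientGroup.mk' N n) ≠ 0 := by
    intro h
    apply hn
    exact (QuotientGroup.eq_one_iff n).1 h
  obtain ⟨k, hk0, hk⟩ := exists_notMem_smul hx
  refine ⟨(zpowGroupHom k : Γ →* Γ).range, ?_, ?_⟩
  · have : Group.FG (Γ ⧸ (zpowGroupHom k : Γ →* Γ).range) := inferInstance
    refine CommGroup.finite_of_fg_isMulTorsion _ fun g => ?_
    obtain ⟨g, rfl⟩ := QuotientGroup.mk'_surjective _ g
    rw [isOfFinOrder_iff_zpow_eq_one]
    refine ⟨k, hk0, ?_⟩
    rw [← map_zpow]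
    exact (QuotientGroup.eq_one_iff _).2 ⟨g, rfl⟩
  · intro h
    rw [Subgroup.mem_sup] at h
    obtain ⟨a, ha, b, ⟨g, rfl⟩, hab⟩ := h
    apply hk (Additive.ofMul (QuotientGroup.mk' N g))
    rw [← hab, map_mul, (QuotientGroup.eq_one_iff a).2 ha |> fun h : QuotientGroup.mk' N a = 1 => h, one_mul]
    simp [zpowGroupHom_apply]

end Groth.Agent.Sga3.H827.ResFin
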