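import Groth.Agent.Sga3.H827.KerAlg1
import Groth.Agent.Sga3.H827.ResFin
import Mathlib.Algebra.MonoidAlgebra.Module
import Mathlib.RingTheory.Finiteness.Nakayama
import Mathlib.RingTheory.Nakayama
import Mathlib.RingTheory.Ideal.GoingUp
import Mathlib.RingTheory.LocalRing.ResidueField.Ideal

/-!
# Kernels of homomorphisms from diagonalisable groups: tools
-/

set_option autoImplicit false
universe u
open TensorProduct

namespace Groth.Agent.Sga3.H827.KerAlg2

open GrpLike KerAlg1

/-- Nakayama at all maximal ideals. -/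
lemma le_of_forall_maximal {B : Type*} [CommRing B] {J L : Ideal B} (hL : L.FG)
    (h : ∀ M : Ideal B, M.IsMaximal → L ≤ J ⊔ M * L) : L ≤ J := by
  by_contra hc
  have h1 : (J.colon (L : Set B)) ≠ ⊤ := by
    intro h1
    apply hc
    intro x hx
    have h2 : (1 : B) ∈ J.colon (L : Set B) := h1 ▸ Submodule.mem_top
    rw [Submodule.mem_colon] at h2
    simpa using h2 x hx
  obtain ⟨M, hM, hle⟩ := Ideal.exists_le_maximal _ h1
  obtain ⟨r, hr1, hr⟩ := Submodule.exists_sub_one_mem_and_smul_le_of_fg_of_le_sup (I := M) (N := J) (N' := L)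
    (P := L) hL le_rfl (h M hM)
  have h3 : r ∈ M := hle (by
    rw [Submodule.mem_colon]
    intro x hx
    exact hr (Submodule.smul_mem_pointwise_smul x r L hx))
  apply hM.ne_top
  rw [Ideal.eq_top_iff_one]
  have := M.sub_mem h3 hr1
  simpa using this

section aug

variable (C : Type u) [CommRing C] {Γ : Type} [CommGroup Γ]

/-- the ideal generated by the `n - 1` -/
noncomputable def aug (N : Subgroup Γ) : Ideal (MonoidAlgebra C Γ) :=
  Ideal.span {x | ∃ n ∈ N, x = MonoidAlgebra.single n 1 - 1}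

lemma single_mem_aug {N : Subgroup Γ} {n : Γ} (hn : n ∈ N) :
    (MonoidAlgebra.single n 1 - 1 : MonoidAlgebra C Γ) ∈ aug C N := Ideal.subset_span ⟨n, hn, rfl⟩

variable {C} in
lemma aug_le_iff {N : Subgroup Γ} {I : Ideal (MonoidAlgebra C Γ)} :
    aug C N ≤ I ↔ ∀ n ∈ N, (MonoidAlgebra.single n 1 - 1 : MonoidAlgebra C Γ) ∈ I := by
  rw [aug, Ideal.span_le]
  constructor
  · intro h n hn
    exact h ⟨n, hn, rfl⟩
  · rintro h _ ⟨n, hn, rfl⟩
    exact h n hn

lemma red_of_mem_aug {N : Subgroup Γ} {x : MonoidAlgebra C Γ} (hx : x ∈ aug C N) : red C C N x = 0 := by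
  have h : aug C N ≤ RingHom.ker (red C C N) := by
    rw [aug_le_iff]
    intro n hn
    rw [RingHom.mem_ker, map_sub, map_one, red_single, (QuotientGroup.eq_one_iff n).2 hn |> fun h : QuotientGroup.mk' N n = 1 => h,
      map_one, ← MonoidAlgebra.one_def, sub_self]
  exact h hx

/-- the projection to the augmentation ideal -/
noncomputable def proj (N : Subgroup Γ) : MonoidAlgebra C Γ →ₗ[C] MonoidAlgebra C Γ :=
  LinearMap.id - (MonoidAlgebra.mapDomainLinearMap C (S := C) (fun x : Γ ⧸ N => x.out)) ∘ₗ (red C C N).toLinearMap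

variable {C}

lemma proj_of_red {N : Subgroup Γ} {x : MonoidAlgebra C Γ} (hx : red C C N x = 0) : proj C N x = x := by
  rw [proj, LinearMap.sub_apply, LinearMap.comp_apply, AlgHom.toLinearMap_apply, hx, map_zero, sub_zero,
    LinearMap.id_apply]

lemma proj_mem (N : Subgroup Γ) (x : MonoidAlgebra C Γ) : proj C N x ∈ aug C N := by
  induction x using MonoidAlgebra.induction_linear with
  | zero => rw [map_zero]; exact Ideal.zero_mem _
  | add x y hx hy => rw [map_add]; exact Ideal.add_mem _ hx hy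
  | single m c =>
    rw [proj, LinearMap.sub_apply, LinearMap.comp_apply, AlgHom.toLinearMap_apply, red_single,
      MonoidAlgebra.mapDomainLinearMap_single, LinearMap.id_apply, Algebra.algebraMap_self, RingHom.id_apply]
    have h1 : (Quotient.out (QuotientGroup.mk' N m))⁻¹ * m ∈ N := by
      rw [← QuotientGroup.eq]
      exact Quotient.out_eq _
    have h2 : (MonoidAlgebra.single m c - MonoidAlgebra.single (Quotient.out (QuotientGroup.mk' N m)) c :
        MonoidAlgebra C Γ) = MonoidAlgebra.single (Quotient.out (QuotientGroup.mk' N m)) c *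
        (MonoidAlgebra.single ((Quotient.out (QuotientGroup.mk' N m))⁻¹ * m) 1 - 1) := by
      rw [mul_sub, MonoidAlgebra.single_mul_single, mul_inv_cancel_left, mul_one, mul_one]
    rw [h2]
    exact Ideal.mul_mem_left _ _ (single_mem_aug C h1)

lemma mem_aug_iff {N : Subgroup Γ} {x : MonoidAlgebra C Γ} : x ∈ aug C N ↔ red C C N x = 0 := by
  constructor
  · exact red_of_mem_aug C
  · intro h
    rw [← proj_of_red h]
    exact proj_mem N x

lemma triv_iff_le_aug {J : Ideal (MonoidAlgebra C Γ)} {N : Subgroup Γ} : Triv C C J N ↔ J ≤ aug C N := by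
  constructor
  · intro h x hx
    exact mem_aug_iff.2 (h x hx)
  · intro h x hx
    exact mem_aug_iff.1 (h hx)

lemma proj_mem_smul {N : Subgroup Γ} {q : Ideal C} {M : Ideal (MonoidAlgebra C Γ)}
    (hM : ∀ a ∈ q, algebraMap C (MonoidAlgebra C Γ) a ∈ M) {x : MonoidAlgebra C Γ}
    (hx : ∀ m, x.coeff m ∈ q) : proj C N x ∈ M * aug C N := by
  classical
  have h1 : x = ∑ m ∈ x.coeff.support, x.coeff m • MonoidAlgebra.single m (1 : C) := by
    conv_lhs => rw [← x.sum_coeff_single]
    rw [Finsupp.sum]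
    refine Finset.sum_congr rfl fun m _ => ?_
    rw [MonoidAlgebra.smul_single, smul_eq_mul, mul_one]
  rw [h1, map_sum]
  refine Ideal.sum_mem _ fun m _ => ?_
  rw [map_smul, Algebra.smul_def]
  exact Ideal.mul_mem_mul (hM _ (hx m)) (proj_mem _ _)

/-- The key lemma. -/
lemma mem_sup_of_coeff {N : Subgroup Γ} {J : Ideal (MonoidAlgebra C Γ)} (hJ : J ≤ aug C N)
    {q : Ideal C} {M : Ideal (MonoidAlgebra C Γ)} [hMm : M.IsMaximal]
    (hM : ∀ a ∈ q, algebraMap C (MonoidAlgebra C Γ) a ∈ M) {s : C}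
    (hs : algebraMap C (MonoidAlgebra C Γ) s ∉ M) {n : Γ} (hn : n ∈ N) {j : MonoidAlgebra C Γ} (hj : j ∈ J)
    (h : ∀ m, (s • (MonoidAlgebra.single n 1 - 1) - j).coeff m ∈ q) :
    (MonoidAlgebra.single n 1 - 1 : MonoidAlgebra C Γ) ∈ J ⊔ M * aug C N := by
  have h1 : s • (MonoidAlgebra.single n 1 - 1) - j ∈ aug C N :=
    Ideal.sub_mem _ (by
      rw [Algebra.smul_def]
      exact Ideal.mul_mem_left _ _ (single_mem_aug C hn)) (hJ hj)
  have h2 : s • (MonoidAlgebra.single n 1 - 1) - j ∈ M * aug C N := by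
    rw [← proj_of_red (red_of_mem_aug C h1)]
    exact proj_mem_smul hM h
  have h3 : s • (MonoidAlgebra.single n 1 - 1 : MonoidAlgebra C Γ) ∈ J ⊔ M * aug C N := by
    have h4 := Ideal.add_mem (J ⊔ M * aug C N) (Ideal.mem_sup_right h2) (Ideal.mem_sup_left hj)
    rwa [sub_add_cancel] at h4
  obtain ⟨r, hr⟩ := Ideal.Quotient.exists_inv (I := M) (a := Ideal.Quotient.mk M (algebraMap C _ s)) (by
    rwa [Ne, Ideal.Quotient.eq_zero_iff_mem])
  obtain ⟨r, rfl⟩ := Ideal.Quotient.mk_surjective r
  rw [← map_mul, ← map_one (Ideal.Quotient.mk M), Ideal.Quotient.eq] at hr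
  have h5 : (MonoidAlgebra.single n 1 - 1 : MonoidAlgebra C Γ) =
      r * (s • (MonoidAlgebra.single n 1 - 1)) -
      (algebraMap C (MonoidAlgebra C Γ) s * r - 1) * (MonoidAlgebra.single n 1 - 1) := by
    rw [Algebra.smul_def]; ring
  rw [h5]
  exact Ideal.sub_mem _ (Ideal.mul_mem_left _ _ h3)
    (Ideal.mem_sup_right (Ideal.mul_mem_mul hr (single_mem_aug C hn)))

end aug

/-- subgroups of a finitely generated commutative group are finitely generated -/
lemma exists_finset {Γ : Type*} [CommGroup Γ] [Group.FG Γ] (N : Subgroup Γ) :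
    ∃ t : Finset Γ, (∀ x ∈ t, x ∈ N) ∧ ∀ P : Subgroup Γ, (∀ x ∈ t, x ∈ P) → N ≤ P := by
  have h1 : Module.Finite ℤ (Additive Γ) :=
    Module.Finite.iff_addGroup_fg.mpr (GroupFG.iff_add_fg.mp inferInstance)
  have h2 : IsNoetherian ℤ (Additive Γ) := isNoetherian_of_isNoetherianRing_of_finite ℤ _
  have h3 : (AddSubgroup.toIntSubmodule (Subgroup.toAddSubgroup N)).FG := IsNoetherian.noetherian _
  obtain ⟨t, ht⟩ := h3
  refine ⟨t.map Additive.toMul.toEmbedding, ?_, ?_⟩
  · intro x hx
    rw [Finset.mem_map] at hx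
    obtain ⟨y, hy, rfl⟩ := hx
    have : y ∈ AddSubgroup.toIntSubmodule (Subgroup.toAddSubgroup N) := ht ▸ Submodule.subset_span hy
    exact this
  · intro P hP
    have h4 : AddSubgroup.toIntSubmodule (Subgroup.toAddSubgroup N) ≤
        AddSubgroup.toIntSubmodule (Subgroup.toAddSubgroup P) := by
      rw [← ht, Submodule.span_le]
      intro y hy
      exact hP (Additive.toMul y) (Finset.mem_map.2 ⟨y, hy, rfl⟩)
    intro x hx
    exact h4 (show Additive.ofMul x ∈ AddSubgroup.toIntSubmodule (Subgroup.toAddSubgroup N) from hx)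

lemma aug_fg (C : Type u) [CommRing C] {Γ : Type} [CommGroup Γ] [Group.FG Γ] (N : Subgroup Γ) : (aug C N).FG := by
  classical
  obtain ⟨t, ht, ht'⟩ := exists_finset N
  refine ⟨t.image fun n => MonoidAlgebra.single n 1 - 1, le_antisymm ?_ ?_⟩
  · rw [Ideal.span_le]
    intro x hx
    rw [Finset.mem_coe, Finset.mem_image] at hx
    obtain ⟨n, hn, rfl⟩ := hx
    exact single_mem_aug C (ht n hn)
  · rw [aug_le_iff]
    set I := Ideal.span (((t.image fun n => MonoidAlgebra.single n (1 : C) - 1) : Finset (MonoidAlgebra C Γ)) : Set (MonoidAlgebra C Γ)) with hI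
    let P : Subgroup Γ :=
      { carrier := {n | (MonoidAlgebra.single n 1 - 1 : MonoidAlgebra C Γ) ∈ I}
        one_mem' := by
          change (MonoidAlgebra.single 1 1 - 1 : MonoidAlgebra C Γ) ∈ I
          rw [← MonoidAlgebra.one_def, sub_self]
          exact I.zero_mem
        mul_mem' := fun {a b} ha hb => by
          change (MonoidAlgebra.single (a * b) 1 - 1 : MonoidAlgebra C Γ) ∈ I
          have h1 : (MonoidAlgebra.single (a * b) 1 - 1 : MonoidAlgebra C Γ) =
              MonoidAlgebra.single a 1 * (MonoidAlgebra.single b 1 - 1) + (MonoidAlgebra.single a 1 - 1) := by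
            rw [mul_sub, MonoidAlgebra.single_mul_single, mul_one, mul_one]; ring
          rw [h1]
          exact I.add_mem (I.smul_mem _ hb) ha
        inv_mem' := fun {a} ha => by
          change (MonoidAlgebra.single a⁻¹ 1 - 1 : MonoidAlgebra C Γ) ∈ I
          have h1 : (MonoidAlgebra.single a⁻¹ 1 - 1 : MonoidAlgebra C Γ) =
              -MonoidAlgebra.single a⁻¹ 1 * (MonoidAlgebra.single a 1 - 1) := by
            rw [neg_mul, mul_sub, MonoidAlgebra.single_mul_single, inv_mul_cancel, mul_one, mul_one,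
              ← MonoidAlgebra.one_def]; ring
          rw [h1]
          exact I.smul_mem _ ha }
    intro n hn
    exact ht' P (fun x hx => Submodule.subset_span (Finset.mem_coe.2 (Finset.mem_image.2 ⟨x, hx, rfl⟩))) hn

end Groth.Agent.Sga3.H827.KerAlg2
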