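import Groth.Agent.Sga3.H827.KerAlg2

/-!
# Kernels of homomorphisms from diagonalisable groups over a local ring
-/

set_option autoImplicit false
universe u
open TensorProduct

namespace Groth.Agent.Sga3.H827.KerAlg3

open GrpLike KerAlg1 KerAlg2

section frac

variable {C : Type u} [CommRing C] {F : Type u} [CommRing F] [Algebra C F] {Γ : Type} [CommGroup Γ]

lemma mapRingHom_smul (s : C) (x : MonoidAlgebra C Γ) : MonoidAlgebra.mapRingHom Γ (algebraMap C F) (s • x) =
    s • MonoidAlgebra.mapRingHom Γ (algebraMap C F) x := by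
  apply MonoidAlgebra.ext
  ext m
  rw [MonoidAlgebra.coeff_mapRingHom, MonoidAlgebra.coeff_smul, MonoidAlgebra.coeff_smul, Finsupp.smul_apply,
    Finsupp.smul_apply, MonoidAlgebra.coeff_mapRingHom, smul_eq_mul, map_mul, Algebra.smul_def]

lemma exists_smul_eq_elt (S : Submonoid C) (hF : ∀ z : F, ∃ s ∈ S, ∃ c : C, s • z = algebraMap C F c)
    (y : MonoidAlgebra F Γ) :
    ∃ s ∈ S, ∃ x : MonoidAlgebra C Γ, s • y = MonoidAlgebra.mapRingHom Γ (algebraMap C F) x := by
  induction y using MonoidAlgebra.induction_linear with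
  | zero => exact ⟨1, S.one_mem, 0, by rw [map_zero, smul_zero]⟩
  | add y₁ y₂ h₁ h₂ =>
    obtain ⟨s₁, hs₁, x₁, h₁⟩ := h₁
    obtain ⟨s₂, hs₂, x₂, h₂⟩ := h₂
    refine ⟨s₁ * s₂, S.mul_mem hs₁ hs₂, s₂ • x₁ + s₁ • x₂, ?_⟩
    rw [map_add, mapRingHom_smul, mapRingHom_smul, ← h₁, ← h₂, smul_add, smul_smul, smul_smul, mul_comm s₂ s₁]
  | single m z =>
    obtain ⟨s, hs, c, h⟩ := hF z
    exact ⟨s, hs, MonoidAlgebra.single m c, by rw [MonoidAlgebra.smul_single, h, MonoidAlgebra.mapRingHom_single]⟩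

lemma exists_smul_eq (S : Submonoid C) (hF : ∀ z : F, ∃ s ∈ S, ∃ c : C, s • z = algebraMap C F c)
    (J : Ideal (MonoidAlgebra C Γ)) {y : MonoidAlgebra F Γ} (hy : y ∈ JE C F J) :
    ∃ s ∈ S, ∃ j ∈ J, s • y = MonoidAlgebra.mapRingHom Γ (algebraMap C F) j := by
  rw [JE, Ideal.map] at hy
  induction hy using Submodule.span_induction with
  | mem y hy =>
    obtain ⟨j, hj, rfl⟩ := hy
    exact ⟨1, S.one_mem, j, hj, one_smul _ _⟩
  | zero => exact ⟨1, S.one_mem, 0, J.zero_mem, by rw [map_zero, smul_zero]⟩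
  | add y₁ y₂ _ _ h₁ h₂ =>
    obtain ⟨s₁, hs₁, x₁, hx₁, h₁⟩ := h₁
    obtain ⟨s₂, hs₂, x₂, hx₂, h₂⟩ := h₂
    refine ⟨s₁ * s₂, S.mul_mem hs₁ hs₂, s₂ • x₁ + s₁ • x₂,
      J.add_mem (Submodule.smul_of_tower_mem J s₂ hx₁) (Submodule.smul_of_tower_mem J s₁ hx₂), ?_⟩
    rw [map_add, mapRingHom_smul, mapRingHom_smul, ← h₁, ← h₂, smul_add, smul_smul, smul_smul, mul_comm s₂ s₁]
  | smul a y _ h =>
    obtain ⟨s, hs, j, hj, h⟩ := h
    obtain ⟨s', hs', a', h'⟩ := exists_smul_eq_elt S hF a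
    refine ⟨s' * s, S.mul_mem hs' hs, a' * j, J.mul_mem_left _ hj, ?_⟩
    rw [map_mul, ← h, ← h', smul_eq_mul, smul_mul_smul_comm]

/-- the condition on a prime -/
def At (J : Ideal (MonoidAlgebra C Γ)) (n : Γ) (q : Ideal C) : Prop :=
  ∃ s, s ∉ q ∧ ∃ j ∈ J, ∀ m, (s • (MonoidAlgebra.single n (1 : C) - 1) - j).coeff m ∈ q

lemma at_of_mem_JE (q : Ideal C) [q.IsPrime] (J : Ideal (MonoidAlgebra C Γ)) (n : Γ)
    (h : (MonoidAlgebra.single n 1 - 1 : MonoidAlgebra q.ResidueField Γ) ∈ JE C q.ResidueField J) : At J n q := by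
  have hF : ∀ z : q.ResidueField, ∃ s ∈ q.primeCompl, ∃ c : C, s • z = algebraMap C q.ResidueField c := by
    intro z
    obtain ⟨a, b, hb, rfl⟩ := IsFractionRing.div_surjective (A := C ⧸ q) z
    obtain ⟨a, rfl⟩ := Ideal.Quotient.mk_surjective a
    obtain ⟨b, rfl⟩ := Ideal.Quotient.mk_surjective b
    have hb0 : algebraMap (C ⧸ q) q.ResidueField (Ideal.Quotient.mk q b) ≠ 0 := by
      intro h0
      rw [map_eq_zero_iff _ (IsFractionRing.injective (C ⧸ q) q.ResidueField)] at h0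
      exact nonZeroDivisors.ne_zero hb h0
    refine ⟨b, ?_, a, ?_⟩
    · intro hbq
      apply nonZeroDivisors.ne_zero hb
      rwa [Ideal.Quotient.eq_zero_iff_mem]
    · rw [Algebra.smul_def]
      change algebraMap (C ⧸ q) q.ResidueField (Ideal.Quotient.mk q b) * _ = algebraMap (C ⧸ q) q.ResidueField (Ideal.Quotient.mk q a)
      rw [mul_div_cancel₀ _ hb0]
  obtain ⟨s, hs, j, hj, h1⟩ := exists_smul_eq q.primeCompl hF J h
  refine ⟨s, hs, j, hj, fun m => ?_⟩
  have h2 : MonoidAlgebra.mapRingHom Γ (algebraMap C q.ResidueField) (s • (MonoidAlgebra.single n (1 : C) - 1) - j) = 0 := by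
    rw [map_sub, mapRingHom_smul, map_sub, map_one, MonoidAlgebra.mapRingHom_single, map_one, h1, sub_self]
  have h3 := congrArg (fun x => MonoidAlgebra.coeff x m) h2
  simp only [MonoidAlgebra.coeff_mapRingHom] at h3
  rw [← Ideal.algebraMap_residueField_eq_zero (I := q)]
  exact h3

end frac

section redlemmas

variable {C : Type u} [CommRing C] {Γ : Type} [CommGroup Γ]

lemma red_map {E E' : Type u} [CommRing E] [Algebra C E] [CommRing E'] [Algebra C E'] (f : E →+* E')
    (hf : ∀ c, f (algebraMap C E c) = algebraMap C E' c)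
    {N Q : Subgroup Γ} (h : N ≤ Q) (x : MonoidAlgebra C Γ) :
    MonoidAlgebra.mapDomainRingHom E' (QuotientGroup.map N Q (MonoidHom.id Γ) h)
      (MonoidAlgebra.mapRingHom _ f (red C E N x)) = red C E' Q x := by
  induction x using MonoidAlgebra.induction_linear with
  | zero => simp
  | add x y hx hy => simp only [map_add, hx, hy]
  | single m c =>
    rw [red_single, red_single, MonoidAlgebra.mapRingHom_single, hf]
    simp

lemma red_eq_zero {E E' : Type u} [CommRing E] [Algebra C E] [CommRing E'] [Algebra C E'] (f : E →+* E')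
    (hf : ∀ c, f (algebraMap C E c) = algebraMap C E' c)
    {N Q : Subgroup Γ} (h : N ≤ Q) {x : MonoidAlgebra C Γ} (hx : red C E N x = 0) : red C E' Q x = 0 := by
  rw [← red_map f hf h, hx, map_zero, map_zero]

lemma red_coeff_mem {q : Ideal C} (P : Subgroup Γ) {x : MonoidAlgebra C Γ} (hx : ∀ m, x.coeff m ∈ q) (m : Γ ⧸ P) :
    (red C C P x).coeff m ∈ q := by
  classical
  have h1 : x = ∑ m ∈ x.coeff.support, MonoidAlgebra.single m (x.coeff m) := by
    conv_lhs => rw [← x.sum_coeff_single]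
    rfl
  rw [h1, map_sum, MonoidAlgebra.coeff_sum, Finset.sum_apply']
  refine Ideal.sum_mem _ fun m' _ => ?_
  rw [red_single, MonoidAlgebra.coeff_single, Finsupp.single_apply]
  split_ifs
  · exact hx m'
  · exact q.zero_mem

lemma red_surjective (P : Subgroup Γ) : Function.Surjective (red C C P) := by
  intro y
  induction y using MonoidAlgebra.induction_linear with
  | zero => exact ⟨0, map_zero _⟩
  | add x y hx hy =>
    obtain ⟨a, rfl⟩ := hx
    obtain ⟨b, rfl⟩ := hy
    exact ⟨a + b, map_add _ _ _⟩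
  | single m c =>
    obtain ⟨m, rfl⟩ := QuotientGroup.mk'_surjective P m
    exact ⟨MonoidAlgebra.single m c, by rw [red_single]; rfl⟩

lemma red_single_sub_one (E : Type u) [CommRing E] [Algebra C E] (P : Subgroup Γ) (n : Γ) :
    red C E P (MonoidAlgebra.single n 1 - 1) = MonoidAlgebra.single (QuotientGroup.mk' P n) 1 - 1 := by
  rw [map_sub, map_one, red_single, map_one]

lemma mem_of_red_eq_zero (E : Type u) [CommRing E] [Nontrivial E] [Algebra C E] {P : Subgroup Γ} {n : Γ}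
    (h : red C E P (MonoidAlgebra.single n 1 - 1) = 0) : n ∈ P := by
  rw [red_single_sub_one, sub_eq_zero, MonoidAlgebra.one_def, MonoidAlgebra.single_left_inj one_ne_zero] at h
  exact (QuotientGroup.eq_one_iff n).1 h

end redlemmas

section loc

variable {C : Type u} [CommRing C] [IsLocalRing C] {Γ : Type} [CommGroup Γ] [Group.FG Γ]
  {J : Ideal (MonoidAlgebra C Γ)} {N : Subgroup Γ}

/-- finite level -/
lemma finite_level (hJN : J ≤ aug C N) (hAt : ∀ n ∈ N, At J n (IsLocalRing.maximalIdeal C))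
    (P : Subgroup Γ) [Finite (Γ ⧸ P)] {n : Γ} (hn : n ∈ N) :
    ∃ j ∈ J, red C C P (MonoidAlgebra.single n 1 - 1) = red C C P j := by
  have hle : J.map (red C C P) ≤ aug C (N.map (QuotientGroup.mk' P)) := by
    rw [Ideal.map_le_iff_le_comap]
    refine hJN.trans ?_
    rw [aug_le_iff]
    intro n hn
    rw [Ideal.mem_comap, red_single_sub_one]
    exact single_mem_aug C ⟨n, hn, rfl⟩
  have hint : Algebra.IsIntegral C (MonoidAlgebra C (Γ ⧸ P)) := inferInstance
  have h1 : aug C (N.map (QuotientGroup.mk' P)) ≤ J.map (red C C P) := by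
    refine le_of_forall_maximal (aug_fg C _) fun M hM => ?_
    rw [aug_le_iff]
    rintro _ ⟨n, hn, rfl⟩
    have hcomap : M.comap (algebraMap C (MonoidAlgebra C (Γ ⧸ P))) = IsLocalRing.maximalIdeal C :=
      IsLocalRing.eq_maximalIdeal (Ideal.isMaximal_comap_of_isIntegral_of_isMaximal M)
    obtain ⟨s, hs, j, hj, h⟩ := hAt n hn
    refine mem_sup_of_coeff hle (q := IsLocalRing.maximalIdeal C) (s := s) (j := red C C P j) ?_ ?_ ⟨n, hn, rfl⟩
      (Ideal.mem_map_of_mem _ hj) ?_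
    · intro a ha
      rw [← hcomap] at ha
      exact ha
    · intro hsM
      apply hs
      rw [← hcomap]
      exact hsM
    · intro m
      have h2 := red_coeff_mem P h m
      rw [map_sub, map_smul, red_single_sub_one] at h2
      exact h2
  have h2 : red C C P (MonoidAlgebra.single n 1 - 1) ∈ J.map (red C C P) := by
    rw [red_single_sub_one]
    exact h1 (single_mem_aug C ⟨n, hn, rfl⟩)
  rw [Ideal.mem_map_iff_of_surjective _ (red_surjective P)] at h2
  obtain ⟨j, hj, h⟩ := h2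
  exact ⟨j, hj, h.symm⟩

lemma le_of_triv_aux {κ : Type u} [Field κ] [Algebra C κ] {N' P : Subgroup Γ} (hN' : Triv C κ J N') {n : Γ}
    {j : MonoidAlgebra C Γ} (hj : j ∈ J) (h : red C C P (MonoidAlgebra.single n 1 - 1) = red C C P j) :
    n ∈ N' ⊔ P := by
  have h1 : red C C P (MonoidAlgebra.single n 1 - 1 - j) = 0 := by rw [map_sub, h, sub_self]
  have h2 : red C κ (N' ⊔ P) (MonoidAlgebra.single n 1 - 1 - j) = 0 :=
    red_eq_zero (E := C) (E' := κ) (algebraMap C κ) (fun c => by rw [Algebra.algebraMap_self, RingHom.id_apply])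
      (le_sup_right : P ≤ N' ⊔ P) h1
  have h3 : red C κ (N' ⊔ P) j = 0 :=
    red_eq_zero (E := κ) (E' := κ) (RingHom.id κ) (fun c => RingHom.id_apply _) (le_sup_left : N' ≤ N' ⊔ P) (hN' j hj)
  rw [map_sub, h3, sub_zero] at h2
  exact mem_of_red_eq_zero (C := C) κ h2

lemma le_of_triv (hJN : J ≤ aug C N) (hAt : ∀ n ∈ N, At J n (IsLocalRing.maximalIdeal C))
    {κ : Type u} [Field κ] [Algebra C κ] {N' : Subgroup Γ} (hN' : Triv C κ J N') : N ≤ N' := by
  intro n hn
  by_contra hc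
  obtain ⟨P, hP, hnP⟩ := ResFin.exists_finite_quotient hc
  obtain ⟨j, hj, h⟩ := finite_level hJN hAt P hn
  exact hnP (le_of_triv_aux hN' hj h)

/-- **Local case.** -/
theorem aug_le (hJ : IsKer J) (hJN : J ≤ aug C N) (hAt : ∀ n ∈ N, At J n (IsLocalRing.maximalIdeal C)) :
    aug C N ≤ J := by
  refine le_of_forall_maximal (aug_fg C _) fun M hM => ?_
  rw [aug_le_iff]
  intro n hn
  have hMp := hM.isPrime
  let q := M.comap (algebraMap C (MonoidAlgebra C Γ))
  have hq : q.IsPrime := inferInstance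
  obtain ⟨N', hN', hN'2⟩ := exists_subgroup q.ResidueField hJ
  obtain ⟨s, hs, j, hj, h⟩ := at_of_mem_JE q J n (hN'2 n (le_of_triv hJN hAt hN' hn))
  exact mem_sup_of_coeff hJN (q := q) (fun a ha => ha) hs hn hj h

end loc

end Groth.Agent.Sga3.H827.KerAlg3
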