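import Groth.Agent.Sga3.H827.KerAlg3
import Mathlib.RingTheory.Localization.AtPrime.Basic
import Mathlib.RingTheory.LocalRing.RingHom.Basic

/-!
# Kernels of homomorphisms from diagonalisable groups are locally diagonalisable

`exists_local`: let `J` be a finitely generated ideal of `C[Γ]`, `Γ` a finitely generated commutative group, such that
the characters killing `J` form a subgroup functor (`IsKer J`) and which is infinitesimally rigid (`IsRig J`).  Then
Zariski-locally on `Spec C` the characters killing `J` are the characters killing a subgroup `N` of `Γ`.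
-/

set_option autoImplicit false
universe u
open TensorProduct

namespace Groth.Agent.Sga3.H827.KerAlg4

open GrpLike KerAlg1 KerAlg2 KerAlg3

variable {C : Type u} [CommRing C] {Γ : Type} [CommGroup Γ]

/-- Rigidity: a subgroup `D(Γ/N)` whose points kill `J` over `E / I`, `I ^ 2 = 0`, `E` local, has points killing `J`. -/
def IsRig (J : Ideal (MonoidAlgebra C Γ)) : Prop :=
  ∀ (E : Type u) [CommRing E] [Algebra C E] [IsLocalRing E] (I : Ideal E), I * I = ⊥ →
    ∀ N : Subgroup Γ, Triv C (E ⧸ I) J N → Triv C E J N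

/-- The ideal of coefficients. -/
lemma exists_coeffIdeal {J : Ideal (MonoidAlgebra C Γ)} (hJ : J.FG) (N : Subgroup Γ) :
    ∃ a : Ideal C, a.FG ∧ ∀ (E : Type u) [CommRing E] [Algebra C E],
      Triv C E J N ↔ a ≤ RingHom.ker (algebraMap C E) := by
  classical
  obtain ⟨t, rfl⟩ := hJ
  refine ⟨Ideal.span ((t.biUnion fun x => (red C C N x).coeff.support.image fun m => (red C C N x).coeff m : Finset C) : Set C),
    ⟨_, rfl⟩, fun E _ _ => ?_⟩
  have h0 : ∀ x : MonoidAlgebra C Γ, red C E N x = MonoidAlgebra.mapRingHom _ (algebraMap C E) (red C C N x) := by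
    intro x
    induction x using MonoidAlgebra.induction_linear with
    | zero => simp
    | add x y hx hy => simp only [map_add, hx, hy]
    | single m c =>
      rw [red_single, red_single, MonoidAlgebra.mapRingHom_single, Algebra.algebraMap_self, RingHom.id_apply]
  have h1 : Triv C E (Ideal.span (t : Set (MonoidAlgebra C Γ))) N ↔ ∀ x ∈ t, red C E N x = 0 := by
    constructor
    · intro h x hx
      exact h x (Ideal.subset_span hx)
    · intro h
      have h2 : Ideal.span (t : Set (MonoidAlgebra C Γ)) ≤ RingHom.ker (red C E N) := by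
        rw [Ideal.span_le]
        intro x hx
        exact h x hx
      intro x hx
      exact h2 hx
  refine Iff.trans h1 ?_
  rw [Ideal.span_le]
  constructor
  · intro h y hy
    rw [Finset.mem_coe, Finset.mem_biUnion] at hy
    obtain ⟨x, hx, hy⟩ := hy
    rw [Finset.mem_image] at hy
    obtain ⟨m, _, rfl⟩ := hy
    have h3 := h x hx
    rw [h0] at h3
    have h4 := congrArg (fun z => MonoidAlgebra.coeff z m) h3
    simp only [MonoidAlgebra.coeff_mapRingHom] at h4
    exact h4
  · intro h x hx
    rw [h0]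
    apply MonoidAlgebra.ext
    ext m
    rw [MonoidAlgebra.coeff_mapRingHom]
    by_cases hm : m ∈ (red C C N x).coeff.support
    · exact h (Finset.mem_coe.2 (Finset.mem_biUnion.2 ⟨x, hx, Finset.mem_image.2 ⟨m, hm, rfl⟩⟩))
    · rw [Finsupp.notMem_support_iff.1 hm, map_zero]
      rfl

section tower

variable {R : Type u} [CommRing R] [Algebra C R] {J : Ideal (MonoidAlgebra C Γ)}

lemma lift_JE {E : Type u} [CommRing E] [Algebra C E] [Algebra R E] [IsScalarTower C R E] (χ : Γ →* E) :
    (∀ x ∈ JE C R J, MonoidAlgebra.lift R E Γ χ x = 0) ↔ ∀ x ∈ J, MonoidAlgebra.lift C E Γ χ x = 0 := by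
  constructor
  · intro h x hx
    rw [← lift_algebraMap (E := R)]
    exact h _ (Ideal.mem_map_of_mem _ hx)
  · intro h x hx
    have hψ : JE C R J ≤ RingHom.ker (MonoidAlgebra.lift R E Γ χ) := by
      rw [JE, Ideal.map_le_iff_le_comap]
      intro x hx
      rw [Ideal.mem_comap, RingHom.mem_ker, lift_algebraMap]
      exact h x hx
    exact hψ hx

lemma isKer_JE (hJ : IsKer J) : IsKer (JE C R J) where
  one := by
    rw [lift_JE]
    intro x hx
    have h3 := lift_comp_eq (Q := C) (Q' := R) (Algebra.ofId C R) (1 : Γ →* C) x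
    have h4 : ((Algebra.ofId C R : C →ₐ[C] R) : C →* R).comp (1 : Γ →* C) = 1 := by
      ext; simp
    rw [h4] at h3
    rw [h3, hJ.one x hx, map_zero]
  mul := by
    intro E _ _ χ₁ χ₂ h₁ h₂
    let _ : Algebra C E := ((algebraMap R E).comp (algebraMap C R)).toAlgebra
    have : IsScalarTower C R E := IsScalarTower.of_algebraMap_eq' rfl
    rw [lift_JE] at h₁ h₂ ⊢
    exact hJ.mul E χ₁ χ₂ h₁ h₂

lemma triv_JE {N : Subgroup Γ} (h : Triv C R J N) : JE C R J ≤ aug R N := by
  rw [JE, Ideal.map_le_iff_le_comap]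
  intro x hx
  rw [Ideal.mem_comap, mem_aug_iff]
  have h0 : ∀ x : MonoidAlgebra C Γ, red R R N (MonoidAlgebra.mapRingHom _ (algebraMap C R) x) = red C R N x := by
    intro x
    induction x using MonoidAlgebra.induction_linear with
    | zero => simp
    | add x y hx hy => simp only [map_add, hx, hy]
    | single m c =>
      rw [red_single, MonoidAlgebra.mapRingHom_single, red_single, Algebra.algebraMap_self, RingHom.id_apply]
  rw [h0]
  exact h x hx

end tower

section local_

variable (p : Ideal C) [p.IsPrime] {J : Ideal (MonoidAlgebra C Γ)}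

/-- Rigidity and Nakayama. -/
lemma triv_of_rig (hfg : J.FG) (hrig : IsRig J) {N : Subgroup Γ} (h : Triv C p.ResidueField J N) :
    Triv C (Localization.AtPrime p) J N := by
  obtain ⟨a, hafg, ha⟩ := exists_coeffIdeal hfg N
  let R := Localization.AtPrime p
  let b : Ideal R := a.map (algebraMap C R)
  have hbfg : b.FG := hafg.map _
  have hb : b ≤ IsLocalRing.maximalIdeal R := by
    rw [Ideal.map_le_iff_le_comap]
    intro x hx
    have h1 := (ha _).1 h hx
    rw [RingHom.mem_ker, Ideal.algebraMap_residueField_eq_zero] at h1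
    rw [Ideal.mem_comap, ← Localization.AtPrime.map_eq_maximalIdeal]
    exact Ideal.mem_map_of_mem _ h1
  have hb2 : b * b ≤ b := Ideal.mul_le_right
  have hne : b * b ≠ ⊤ := fun h0 => (IsLocalRing.maximalIdeal.isMaximal R).ne_top (top_le_iff.1 (h0 ▸ (hb2.trans hb)))
  have hnt : Nontrivial (R ⧸ b * b) := Ideal.Quotient.nontrivial_iff.2 hne
  have hloc : IsLocalRing (R ⧸ b * b) :=
    IsLocalRing.of_surjective' (Ideal.Quotient.mk (b * b)) Ideal.Quotient.mk_surjective
  have hI : (b.map (Ideal.Quotient.mk (b * b))) * (b.map (Ideal.Quotient.mk (b * b))) = ⊥ :=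
    (Ideal.map_mul (Ideal.Quotient.mk (b * b)) b b).symm.trans (Ideal.map_quotient_self _)
  have h2 : Triv C ((R ⧸ b * b) ⧸ (b.map (Ideal.Quotient.mk (b * b)))) J N := by
    rw [ha]
    intro x hx
    rw [RingHom.mem_ker]
    change Ideal.Quotient.mk _ (Ideal.Quotient.mk _ (algebraMap C R x)) = 0
    rw [Ideal.Quotient.eq_zero_iff_mem]
    exact Ideal.mem_map_of_mem _ (Ideal.mem_map_of_mem _ hx)
  have h3 := (ha _).1 (hrig (R ⧸ b * b) _ hI N h2)
  have h4 : b ≤ b * b := by
    rw [Ideal.map_le_iff_le_comap]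
    intro x hx
    have h5 := h3 hx
    rw [RingHom.mem_ker] at h5
    change Ideal.Quotient.mk _ (algebraMap C R x) = 0 at h5
    rwa [Ideal.Quotient.eq_zero_iff_mem] at h5
  have h5 : b = ⊥ := Submodule.eq_bot_of_le_smul_of_le_jacobson_bot b b hbfg h4
    (hb.trans (IsLocalRing.maximalIdeal_le_jacobson _))
  rw [ha]
  intro x hx
  rw [RingHom.mem_ker, ← Ideal.mem_bot, ← h5]
  exact Ideal.mem_map_of_mem _ hx

lemma exists_notMem_of_fg {a : Ideal C} (ha : a.FG)
    (h : a ≤ RingHom.ker (algebraMap C (Localization.AtPrime p))) :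
    ∃ f, f ∉ p ∧ ∀ x ∈ a, f * x = 0 := by
  classical
  obtain ⟨t, rfl⟩ := ha
  have h1 : ∀ x ∈ t, ∃ f, f ∉ p ∧ f * x = 0 := by
    intro x hx
    have h2 := h (Ideal.subset_span hx)
    rw [RingHom.mem_ker, ← map_zero (algebraMap C (Localization.AtPrime p)),
      IsLocalization.eq_iff_exists p.primeCompl] at h2
    obtain ⟨f, hf⟩ := h2
    exact ⟨f, f.2, by rw [hf, mul_zero]⟩
  choose! f hf hf' using h1
  refine ⟨∏ x ∈ t, f x, ?_, ?_⟩
  · have : ∏ x ∈ t, f x ∈ p.primeCompl := Submonoid.prod_mem _ fun x hx => hf x hx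
    exact this
  · intro x hx
    have h2 : Ideal.span (t : Set C) ≤ (Submodule.annihilator (Ideal.span {∏ x ∈ t, f x})) := by
      rw [Ideal.span_le]
      intro y hy
      rw [SetLike.mem_coe, Submodule.mem_annihilator_span_singleton, smul_eq_mul]
      rw [← Finset.mul_prod_erase t f hy, ← mul_assoc, mul_comm y, hf' y hy, zero_mul]
    have h3 := h2 hx
    rw [Submodule.mem_annihilator_span_singleton, smul_eq_mul] at h3
    rw [mul_comm, h3]

lemma exists_smul_mem {x : MonoidAlgebra C Γ}
    (h : MonoidAlgebra.mapRingHom Γ (algebraMap C (Localization.AtPrime p)) x ∈ JE C (Localization.AtPrime p) J) :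
    ∃ s, s ∉ p ∧ s • x ∈ J := by
  classical
  obtain ⟨s, hs, j, hj, h1⟩ := exists_smul_eq p.primeCompl (fun z => by
    obtain ⟨⟨c, s⟩, hz⟩ := IsLocalization.surj p.primeCompl z
    exact ⟨s, s.2, c, by rw [Algebra.smul_def, mul_comm]; exact hz⟩) J h
  have h2 : Ideal.span (((s • x - j).coeff.support.image fun m => (s • x - j).coeff m : Finset C) : Set C) ≤
      RingHom.ker (algebraMap C (Localization.AtPrime p)) := by
    rw [Ideal.span_le]
    intro y hy
    rw [Finset.mem_coe, Finset.mem_image] at hy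
    obtain ⟨m, _, rfl⟩ := hy
    have h3 : MonoidAlgebra.mapRingHom Γ (algebraMap C (Localization.AtPrime p)) (s • x - j) = 0 := by
      rw [map_sub, mapRingHom_smul, h1, sub_self]
    have h4 := congrArg (fun z => MonoidAlgebra.coeff z m) h3
    simp only [MonoidAlgebra.coeff_mapRingHom] at h4
    exact h4
  obtain ⟨f, hf, hf'⟩ := exists_notMem_of_fg p ⟨_, rfl⟩ h2
  refine ⟨f * s, fun h0 => (‹p.IsPrime›.mem_or_mem h0).elim hf hs, ?_⟩
  have h3 : (f * s) • x = f • j := by
    rw [← sub_eq_zero, mul_smul, ← smul_sub]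
    apply MonoidAlgebra.ext
    ext m
    rw [MonoidAlgebra.coeff_smul, Finsupp.smul_apply, smul_eq_mul]
    by_cases hm : m ∈ (s • x - j).coeff.support
    · exact hf' _ (Ideal.subset_span (Finset.mem_coe.2 (Finset.mem_image.2 ⟨m, hm, rfl⟩)))
    · rw [Finsupp.notMem_support_iff.1 hm, mul_zero]
      rfl
  rw [h3]
  exact Submodule.smul_of_tower_mem J f hj

end local_

section final

variable {J : Ideal (MonoidAlgebra C Γ)}

lemma lift_quot {E : Type u} [CommRing E] [Algebra C E] {N : Subgroup Γ} (χ : Γ →* E) (hχ : ∀ n ∈ N, χ n = 1)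
    {x : MonoidAlgebra C Γ} (hx : red C E N x = 0) : MonoidAlgebra.lift C E Γ χ x = 0 := by
  have h1 : ∀ x : MonoidAlgebra C Γ,
      MonoidAlgebra.lift E E (Γ ⧸ N) (QuotientGroup.lift N χ hχ) (red C E N x) = MonoidAlgebra.lift C E Γ χ x := by
    intro x
    induction x using MonoidAlgebra.induction_linear with
    | zero => simp
    | add x y hx hy => simp only [map_add, hx, hy]
    | single m c =>
      rw [red_single, MonoidAlgebra.lift_single, MonoidAlgebra.lift_single, Algebra.smul_def c, smul_eq_mul]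
      rfl
  rw [← h1, hx, map_zero]

theorem exists_local [Group.FG Γ] (hfg : J.FG) (hJ : IsKer J) (hrig : IsRig J) (p : Ideal C) [p.IsPrime] :
    ∃ f, f ∉ p ∧ ∃ N : Subgroup Γ, ∀ (E : Type u) [CommRing E] [Algebra C E], IsUnit (algebraMap C E f) →
      ∀ χ : Γ →* E, (∀ x ∈ J, MonoidAlgebra.lift C E Γ χ x = 0) ↔ ∀ n ∈ N, χ n = 1 := by
  classical
  obtain ⟨N, hN, hN'⟩ := exists_subgroup p.ResidueField hJ
  have h1 := triv_of_rig p hfg hrig hN
  have h2 : aug (Localization.AtPrime p) N ≤ JE C (Localization.AtPrime p) J := by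
    refine aug_le (isKer_JE hJ) (triv_JE h1) fun n hn => ?_
    obtain ⟨s, hs, j, hj, h3⟩ := at_of_mem_JE p J n (hN' n hn)
    refine ⟨algebraMap C _ s, ?_, MonoidAlgebra.mapRingHom Γ (algebraMap C _) j, Ideal.mem_map_of_mem _ hj, fun m => ?_⟩
    · intro h4
      exact (IsLocalization.AtPrime.to_map_mem_maximal_iff (Localization.AtPrime p) p s).not.2 hs h4
    · have h5 : (algebraMap C (Localization.AtPrime p) s) • (MonoidAlgebra.single n (1 : Localization.AtPrime p) - 1) -
          MonoidAlgebra.mapRingHom Γ (algebraMap C _) j =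
          MonoidAlgebra.mapRingHom Γ (algebraMap C _) (s • (MonoidAlgebra.single n 1 - 1) - j) := by
        rw [map_sub, mapRingHom_smul, map_sub, map_one, MonoidAlgebra.mapRingHom_single, map_one, algebraMap_smul]
      rw [h5, MonoidAlgebra.coeff_mapRingHom]
      exact (IsLocalization.AtPrime.to_map_mem_maximal_iff (Localization.AtPrime p) p _).2 (h3 m)
  obtain ⟨a, hafg, ha⟩ := exists_coeffIdeal hfg N
  obtain ⟨f₀, hf₀, hf₀'⟩ := exists_notMem_of_fg p hafg ((ha _).1 h1)
  obtain ⟨t, ht, ht'⟩ := exists_finset N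
  have h3 : ∀ n ∈ t, ∃ s, s ∉ p ∧ s • (MonoidAlgebra.single n 1 - 1) ∈ J := by
    intro n hn
    apply exists_smul_mem
    rw [map_sub, map_one, MonoidAlgebra.mapRingHom_single, map_one]
    exact h2 (single_mem_aug _ (ht n hn))
  choose! s hs hs' using h3
  refine ⟨f₀ * ∏ n ∈ t, s n, ?_, N, fun E _ _ hE χ => ?_⟩
  · intro h0
    refine (‹p.IsPrime›.mem_or_mem h0).elim hf₀ ?_
    have : ∏ x ∈ t, s x ∈ p.primeCompl := Submonoid.prod_mem _ fun x hx => hs x hx
    exact this
  rw [map_mul, IsUnit.mul_iff] at hE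
  constructor
  · intro h
    let P : Subgroup Γ :=
      { carrier := {n | χ n = 1}
        one_mem' := map_one χ
        mul_mem' := fun {a b} ha hb => by
          change χ _ = 1
          change χ _ = 1 at ha
          change χ _ = 1 at hb
          rw [map_mul, ha, hb, mul_one]
        inv_mem' := fun {a} ha => by
          change χ _ = 1
          change χ _ = 1 at ha
          have h1 : χ a * χ a⁻¹ = 1 := by rw [← map_mul, mul_inv_cancel, map_one]
          rwa [ha, one_mul] at h1 }
    intro n hn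
    refine ht' P (fun n hn => ?_) hn
    have h4 := h _ (hs' n hn)
    rw [map_smul, map_sub, map_one, MonoidAlgebra.lift_single, one_smul, Algebra.smul_def] at h4
    have h5 : IsUnit (algebraMap C E (s n)) := by
      refine isUnit_of_dvd_unit ?_ hE.2
      exact map_dvd _ (Finset.dvd_prod_of_mem s hn)
    have h6 : χ n - 1 = 0 := (h5.mul_right_eq_zero).1 h4
    change χ n = 1
    rwa [sub_eq_zero] at h6
  · intro h x hx
    refine lift_quot χ h ?_
    refine (ha E).2 (fun c hc => ?_) x hx
    rw [RingHom.mem_ker]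
    have h4 := congrArg (algebraMap C E) (hf₀' c hc)
    rw [map_mul, map_zero] at h4
    exact (hE.1.mul_right_eq_zero).1 h4

end final

end Groth.Agent.Sga3.H827.KerAlg4
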