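import Groth.Agent.Sga3.H827.KerLoc
import Groth.Agent.Sga3.H828.DiagChart

/-!
# The kernel of a homomorphism from a group with a diagonalisable chart
-/

set_option autoImplicit false
universe u
open CategoryTheory MonoidalCategory CartesianMonoidalCategory MonObj GrpObj AlgebraicGeometry Limits

namespace Groth.Agent.Sga3.H827.KerChart

open Groth.Agent.Sga3B.DSPts Groth.Agent.Sga3B.InfConj Groth.Agent.Sga3B.InfConjFam
open Groth.Agent.Sga3.H828.DiagChart Groth.Agent.Sga3.H828.DiagChart.Chart KerPts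

variable {S : Scheme.{u}} {T G : Over S} [GrpObj T] [GrpObj G] (h : T ⟶ G) {M : Type} [AddCommGroup M]

section

variable {U : Scheme.{u}} (q : U ⟶ S) (c : Chart T (Over.mk q) M)

/-- the character of a point of `D(M)` -/
noncomputable abbrev ch {Y : Over U} (y : Y ⟶ Red.DS U M) : Multiplicative M →* Γ(((Over.map q).obj Y).left, ⊤) :=
  (dsChar (S := U) (T := Y) y : Multiplicative M →* Γ(Y.left, ⊤))

/-- The homomorphism `D(M) ⟶ G` over the base of the chart. -/
noncomputable def hom : Red.DS U M ⟶ Red.bc q G :=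
  bcEquiv q (Red.DS U M) G ((c.chr (taut q (Red.DS U M))).symm (ch q (𝟙 (Red.DS U M))) ≫ h)

lemma comp_hom {Y : Over U} (y : Y ⟶ Red.DS U M) :
    y ≫ hom h q c = bcEquiv q Y G ((c.chr (taut q Y)).symm (ch q y) ≫ h) := by
  have h1 : taut q Y = (Over.map q).map y ≫ taut q (Red.DS U M) := by
    ext1
    exact (Over.w y).symm
  rw [hom, bcEquiv_naturality, ← Category.assoc, chr_symm_comp, ← h1]
  congr 4
  have h2 := dsChar_comp y (𝟙 (Red.DS U M))
  rw [Category.comp_id] at h2
  exact h2.symm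

lemma isMonHom_hom [IsMonHom h] : IsMonHom (hom h q c) := isMonHom_of_mul _ fun Y y y' => by
  have h1 : ch q (y * y') = ch q y * ch q y' := dsChar_mul y y'
  rw [comp_hom, comp_hom, comp_hom, h1, map_mul, MonObj.mul_comp, map_mul]

lemma comp_eq_one_iff {Y : Over U} (x : (Over.map q).obj Y ⟶ T) :
    x ≫ h = 1 ↔ dsEquiv Y M (c.chr (taut q Y) x : Multiplicative M →* Γ(Y.left, ⊤)) ≫ hom h q c = 1 := by
  have h1 : ch q (dsEquiv Y M (c.chr (taut q Y) x : Multiplicative M →* Γ(Y.left, ⊤))) = c.chr (taut q Y) x :=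
    dsChar_dsEquiv _
  rw [comp_hom, h1, MulEquiv.symm_apply_apply, map_eq_one_iff _ (bcEquiv q Y G).injective]

end

theorem exists_local [IsMonHom h] [AddGroup.FG M] [IsSeparated G.hom] [LocallyOfFiniteType G.hom] {C : Type u}
    [CommRing C] (q : Spec (CommRingCat.of C) ⟶ S) (c : Chart T (Over.mk q) M) (p : Ideal C) [p.IsPrime] :
    ∃ f, f ∉ p ∧ ∃ N : AddSubgroup M, ∀ (Y : Over (Spec (CommRingCat.of C))),
      (letI := algT Y; IsUnit (algebraMap C Γ(Y.left, ⊤) f)) → ∀ x : (Over.map q).obj Y ⟶ T,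
        x ≫ h = 1 ↔ ∀ n ∈ N, c.chr (taut q Y) x (Multiplicative.ofAdd n) = 1 := by
  have := isMonHom_hom h q c
  have : IsSeparated (Red.bc q G).hom := inferInstanceAs (IsSeparated (pullback.snd _ _))
  have : LocallyOfFiniteType (Red.bc q G).hom := inferInstanceAs (LocallyOfFiniteType (pullback.snd _ _))
  obtain ⟨f, hf, N, hN⟩ := KerLoc.exists_local (hom h q c) p
  refine ⟨f, hf, N, fun Y hY x => ?_⟩
  rw [comp_eq_one_iff h q c x, hN Y hY, dsChar_dsEquiv]

end Groth.Agent.Sga3.H827.KerChart
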