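import Groth.Agent.Sga3.H827.KerChart
import Groth.Agent.Sga3B.TorusEtLoc920
import Mathlib.AlgebraicGeometry.Morphisms.Etale

/-!
# Étale charts of a torus adapted to a homomorphism
-/

set_option autoImplicit false
universe u
open CategoryTheory MonoidalCategory CartesianMonoidalCategory MonObj GrpObj AlgebraicGeometry Limits

namespace Groth.Agent.Sga3.H827.KerData

open Groth.Agent.Sga3B.DSPts Groth.Agent.Sga3B.InfConj Groth.Agent.Sga3B.InfConjFam
open Groth.Agent.Sga3.H828.DiagChart Groth.Agent.Sga3.H828.DiagChart.Chart KerPts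

variable {S : Scheme.{u}} {T G : Over S} [GrpObj T] [GrpObj G] (h : T ⟶ G) {M : Type} [AddCommGroup M]

/-- in the chart `c` the kernel of `h` is the set of points killed by `N` -/
def Adapted {B : Over S} (c : Chart T B M) (N : AddSubgroup M) : Prop :=
  ∀ (X : Over S) (t : X ⟶ B) (x : X ⟶ T), x ≫ h = 1 ↔ ∀ n ∈ N, c.chr t x (Multiplicative.ofAdd n) = 1

lemma isUnit_of_away {C : Type u} [CommRing C] (f : C) {X : Scheme.{u}}
    (t : X ⟶ Spec (CommRingCat.of (Localization.Away f))) :
    letI := algT (Over.mk (t ≫ Spec.map (CommRingCat.ofHom (algebraMap C (Localization.Away f)))))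
    IsUnit (algebraMap C
      Γ((Over.mk (t ≫ Spec.map (CommRingCat.ofHom (algebraMap C (Localization.Away f))))).left, ⊤) f) := by
  have h1 := Scheme.ΓSpecIso_inv_naturality (CommRingCat.ofHom (algebraMap C (Localization.Away f)))
  have h2 : ((Scheme.ΓSpecIso (CommRingCat.of C)).inv ≫
      (t ≫ Spec.map (CommRingCat.ofHom (algebraMap C (Localization.Away f)))).appTop).hom f =
      ((Scheme.ΓSpecIso (CommRingCat.of (Localization.Away f))).inv ≫ t.appTop).hom (algebraMap C (Localization.Away f) f) := by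
    rw [Scheme.Hom.comp_appTop]
    exact congr(($h1 ≫ t.appTop).hom f).symm
  change IsUnit (((Scheme.ΓSpecIso (CommRingCat.of C)).inv ≫
      (t ≫ Spec.map (CommRingCat.ofHom (algebraMap C (Localization.Away f)))).appTop).hom f)
  rw [h2]
  exact (IsLocalization.Away.algebraMap_isUnit f).map _

theorem exists_adapted [IsMonHom h] [AddGroup.FG M] [IsSeparated G.hom] [LocallyOfFiniteType G.hom] {C : Type u}
    [CommRing C] (q : Spec (CommRingCat.of C) ⟶ S) [Etale q] (c : Chart T (Over.mk q) M) (y : Spec (CommRingCat.of C)) :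
    ∃ (B : Type u) (_ : CommRing B) (v : Spec (CommRingCat.of B) ⟶ S) (c' : Chart T (Over.mk v) M) (N : AddSubgroup M),
      Etale v ∧ q y ∈ Set.range v ∧ Adapted h c' N := by
  obtain ⟨f, hf, N, hN⟩ := KerChart.exists_local h q c y.asIdeal
  let ρ : Spec (CommRingCat.of (Localization.Away f)) ⟶ Spec (CommRingCat.of C) :=
    Spec.map (CommRingCat.ofHom (algebraMap C (Localization.Away f)))
  let b : Over.mk (ρ ≫ q) ⟶ Over.mk q := Over.homMk ρ rfl
  refine ⟨Localization.Away f, inferInstance, ρ ≫ q, c.restrict b, N, inferInstance, ?_, fun X t x => ?_⟩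
  · obtain ⟨z, hz⟩ : y ∈ Set.range ρ := by
      change y ∈ Set.range (PrimeSpectrum.comap (algebraMap C (Localization.Away f)))
      rw [PrimeSpectrum.localization_away_comap_range (Localization.Away f) f]
      exact hf
    exact ⟨z, by rw [Scheme.Hom.comp_apply, hz]⟩
  · let Y : Over (Spec (CommRingCat.of C)) := Over.mk (t.left ≫ ρ)
    have hw : t.left ≫ ρ ≫ q = X.hom := Over.w t
    let i : (Over.map q).obj Y ≅ X := Over.isoMk (Iso.refl _) (by
      change 𝟙 _ ≫ X.hom = (t.left ≫ ρ) ≫ q
      rw [Category.id_comp, Category.assoc, hw])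
    have hi : i.hom.left = 𝟙 _ := rfl
    have h1 : x ≫ h = 1 ↔ (i.hom ≫ x) ≫ h = 1 := by
      rw [Category.assoc]
      constructor
      · intro hx
        rw [hx, comp_one]
      · intro hx
        rw [← cancel_epi i.hom, hx, comp_one]
    rw [h1, hN Y (isUnit_of_away f t.left)]
    refine forall₂_congr fun n _ => ?_
    have h2 : taut q Y = i.hom ≫ t ≫ b := by
      ext1
      rw [Over.comp_left, hi, Category.id_comp]
      rfl
    rw [h2, chr_comp_apply]
    have h3 : i.hom.left.appTop = 𝟙 _ := by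
      rw [hi]
      exact Scheme.Hom.id_appTop
    rw [h3]
    rfl

/-- **Adapted étale charts of tori.** -/
theorem exists_adapted_torus [IsMonHom h] [IsSeparated G.hom] [LocallyOfFiniteType G.hom] (hT : Red.IsTorus T)
    (s : S) :
    ∃ (B : Type u) (_ : CommRing B) (v : Spec (CommRingCat.of B) ⟶ S) (r : ℕ) (c : Chart T (Over.mk v) (Fin r → ℤ))
      (N : AddSubgroup (Fin r → ℤ)), Etale v ∧ s ∈ Set.range v ∧ Adapted h c N := by
  obtain ⟨C, _, q, r, hq, ⟨y, rfl⟩, ⟨e⟩⟩ := Groth.Agent.Sga3B.TorusEtLoc920.exists_etale_split T hT s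
  obtain ⟨B, _, v, c, N, h1, h2, h3⟩ := exists_adapted h q (Chart.ofIso q e) y
  exact ⟨B, inferInstance, v, r, c, N, h1, h2, h3⟩

end Groth.Agent.Sga3.H827.KerData
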