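import Groth.Agent.Sga3.H827.KerPts

/-!
# The kernel of a homomorphism `D(M) ⟶ G` is Zariski-locally diagonalisable
-/

set_option autoImplicit false
universe u
open CategoryTheory MonoidalCategory CartesianMonoidalCategory MonObj GrpObj AlgebraicGeometry Limits

namespace Groth.Agent.Sga3.H827.KerLoc

open Groth.Agent.Sga3B.DSPts Groth.Agent.Sga3B.InfConj Groth.Agent.Sga3B.InfConjFam KerAlg1 KerAlg4 KerPts

variable {C : Type u} [CommRing C] {M : Type} [AddCommGroup M]
  {G : Over (Spec (CommRingCat.of C))} [GrpObj G] (h : Red.DS (Spec (CommRingCat.of C)) M ⟶ G)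

/-- `J` is the ideal of the kernel of `h`. -/
def IsIdealOf (J : Ideal (MonoidAlgebra C (Multiplicative M))) : Prop :=
  ∀ (T : Over (Spec (CommRingCat.of C))) (x : T ⟶ Red.DS (Spec (CommRingCat.of C)) M), x ≫ h = 1 ↔
    letI := algT T; ∀ j ∈ J, MonoidAlgebra.lift C Γ(T.left, ⊤) (Multiplicative M) (dsChar x) j = 0

theorem exists_kerIdeal [IsSeparated G.hom] [LocallyOfFiniteType G.hom] :
    ∃ J : Ideal (MonoidAlgebra C (Multiplicative M)), J.FG ∧ IsIdealOf h J := by
  obtain ⟨J, hJ, h1⟩ := exists_ideal (univPt C M ≫ h) 1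
  refine ⟨J, hJ, fun T x => ?_⟩
  obtain ⟨t, rfl⟩ := exists_eq_comp_charPt x
  rw [Category.assoc]
  have h2 := h1 T t
  rw [comp_one] at h2
  rw [h2]
  refine forall₂_congr fun j _ => ?_
  rw [gl_single]

variable {h} {J : Ideal (MonoidAlgebra C (Multiplicative M))}

lemma charPt_iff (hJ : IsIdealOf h J) {E : Type u} [CommRing E] [Algebra C E] (χ : Multiplicative M →* E) :
    charPt (C := C) χ ≫ h = 1 ↔ ∀ j ∈ J, MonoidAlgebra.lift C E (Multiplicative M) χ j = 0 := by
  have h1 : charPt (C := C) χ = ptMap (MonoidAlgebra.lift C E (Multiplicative M) χ) ≫ univPt C M := by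
    rw [univPt, ptMap_charPt]
    congr 1
    ext m
    simp
  rw [hJ, h1]
  refine forall₂_congr fun j _ => ?_
  rw [← gl_single, gl_ptMap]
  exact map_eq_zero_iff _ (gPt_injective C E)

lemma isKer [IsMonHom h] (hJ : IsIdealOf h J) : IsKer J where
  one := by
    rw [← charPt_iff hJ]
    have h1 : charPt (C := C) (1 : Multiplicative M →* C) = 1 := by
      unfold charPt
      rw [MonoidHom.comp_one]
      exact map_one (dsEquiv (pt C C) M)
    rw [h1, one_comp]
  mul := by
    intro E _ _ χ₁ χ₂ h₁ h₂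
    rw [← charPt_iff hJ] at h₁ h₂ ⊢
    rw [charPt_mul, MonObj.mul_comp, h₁, h₂, _root_.one_mul]

lemma lift_red' {E Q : Type u} [CommRing E] [Algebra C E] [CommRing Q] [Algebra C Q] [Algebra E Q]
    [IsScalarTower C E Q] {Γ : Type} [CommGroup Γ] {N : Subgroup Γ} (u : Γ →* Q) (ub : Γ ⧸ N →* Q)
    (hub : ∀ m, ub (QuotientGroup.mk' N m) = u m) (x : MonoidAlgebra C Γ) :
    MonoidAlgebra.lift E Q (Γ ⧸ N) ub (red C E N x) = MonoidAlgebra.lift C Q Γ u x := by
  induction x using MonoidAlgebra.induction_linear with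
  | zero => simp
  | add x y hx hy => rw [map_add, map_add, map_add, hx, hy]
  | single m c =>
    rw [red_single, MonoidAlgebra.lift_single, MonoidAlgebra.lift_single, algebraMap_smul, hub]

/-- the quotient of `M` by a subgroup of `Multiplicative M` -/
lemma exists_quo (N : Subgroup (Multiplicative M)) :
    ∃ (M' : Type) (_ : AddCommGroup M') (φ : M →+ M') (e : Multiplicative M' ≃* (Multiplicative M ⧸ N)),
      ∀ m : Multiplicative M, e (Multiplicative.ofAdd (φ m.toAdd)) = QuotientGroup.mk' N m :=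
  ⟨Additive (Multiplicative M ⧸ N), inferInstance, MonoidHom.toAdditiveRight (QuotientGroup.mk' N),
    MulEquiv.refl _, fun _ => rfl⟩

lemma isMonHom_DSmap {S : Scheme.{u}} {M M' : Type} [AddCommGroup M] [AddCommGroup M'] (φ : M →+ M') :
    IsMonHom (Red.DSmap S φ) := isMonHom_of_mul _ fun T x y => by
  apply (dsEquiv T M).symm.injective
  change dsChar _ = dsChar _
  rw [dsChar_DSmap, dsChar_mul, dsChar_mul, dsChar_DSmap, dsChar_DSmap, MonoidHom.mul_comp]

variable {M' : Type} [AddCommGroup M'] (φ : M →+ M')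

variable (h) in
/-- the family on `D(M/N)` -/
noncomputable def fam (X : Over (Spec (CommRingCat.of C))) :
    Red.DS (Spec (CommRingCat.of C)) M' ⊗ X ⟶ G :=
  fst _ _ ≫ Red.DSmap _ φ ≫ h

lemma isHomFamily_fam [IsMonHom h] (X : Over (Spec (CommRingCat.of C))) :
    AutFam.IsHomFamily (Red.DS (Spec (CommRingCat.of C)) M') G (fam h φ X) := by
  intro Y g₁ g₂ t
  have h1 : IsMonHom (Red.DSmap (Spec (CommRingCat.of C)) φ) := isMonHom_DSmap φ
  have h2 : (g₁ * g₂) ≫ Red.DSmap (Spec (CommRingCat.of C)) φ =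
      (g₁ ≫ Red.DSmap (Spec (CommRingCat.of C)) φ) * (g₂ ≫ Red.DSmap (Spec (CommRingCat.of C)) φ) :=
    MonObj.mul_comp _ _ _
  simp only [fam, lift_fst_assoc]
  rw [← Category.assoc, h2, MonObj.mul_comp, Category.assoc, Category.assoc]

variable {N : Subgroup (Multiplicative M)} (e : Multiplicative M' ≃* (Multiplicative M ⧸ N))
  (he : ∀ m : Multiplicative M, e (Multiplicative.ofAdd (φ m.toAdd)) = QuotientGroup.mk' N m)

include he in
lemma fam_eq_one (hJ : IsIdealOf h J) {E : Type u} [CommRing E] [Algebra C E]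
    (hN : Triv C E J N) {T : Over (Spec (CommRingCat.of C))}
    (q : T ⟶ Red.DS (Spec (CommRingCat.of C)) M') (t : T ⟶ pt C E) :
    q ≫ Red.DSmap _ φ ≫ h = 1 := by
  rw [← Category.assoc, hJ]
  intro j hj
  let _ := algT T
  let _ : Algebra E Γ(T.left, ⊤) := (gl t).toAlgebra
  have : IsScalarTower C E Γ(T.left, ⊤) := by
    refine IsScalarTower.of_algebraMap_eq fun c => ?_
    exact (gl_algebraMap t c).symm
  rw [dsChar_DSmap, ← lift_red' (E := E) (N := N) _ ((dsChar q).comp e.symm.toMonoidHom), hN j hj, map_zero]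
  intro m
  change dsChar q (e.symm _) = dsChar q _
  rw [← he, MulEquiv.symm_apply_apply]
  rfl

/-- `Spec (E / I)` over `Spec C` -/
noncomputable def toPtQ {E : Type u} [CommRing E] [Algebra C E] (I : Ideal E) :
    Over.mk (Spec.map (CommRingCat.ofHom (Ideal.Quotient.mk I)) ≫
      (Spec.map (CommRingCat.ofHom (algebraMap C E)) : Spec (CommRingCat.of E) ⟶ Spec (CommRingCat.of C))) ⟶
      pt C (E ⧸ I) :=
  Over.homMk (𝟙 (Spec (CommRingCat.of (E ⧸ I)))) (by
    change 𝟙 (Spec (CommRingCat.of (E ⧸ I))) ≫ Spec.map (CommRingCat.ofHom (algebraMap C (E ⧸ I))) =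
      Spec.map (CommRingCat.ofHom (Ideal.Quotient.mk I)) ≫ Spec.map (CommRingCat.ofHom (algebraMap C E))
    rw [Category.id_comp, ← Spec.map_comp, ← CommRingCat.ofHom_comp])

lemma isHomFamily_one (X : Over (Spec (CommRingCat.of C))) :
    AutFam.IsHomFamily (Red.DS (Spec (CommRingCat.of C)) M') G
      (1 : Red.DS (Spec (CommRingCat.of C)) M' ⊗ X ⟶ G) := by
  intro Y g₁ g₂ t
  rw [comp_one, comp_one, comp_one, _root_.one_mul]

include he in
lemma red_fam (hJ : IsIdealOf h J) {E : Type u} [CommRing E] [Algebra C E]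
    (I : Ideal E) (hN : Triv C (E ⧸ I) J N) :
    (Red.DS (Spec (CommRingCat.of C)) M' ◁ redMap (Spec.map (CommRingCat.ofHom (algebraMap C E)) :
      Spec (CommRingCat.of E) ⟶ Spec (CommRingCat.of C)) I) ≫ fam h φ (Over.mk _) =
    (Red.DS (Spec (CommRingCat.of C)) M' ◁ redMap (Spec.map (CommRingCat.ofHom (algebraMap C E)) :
      Spec (CommRingCat.of E) ⟶ Spec (CommRingCat.of C)) I) ≫ 1 := by
  rw [comp_one, fam, ← Category.assoc, whiskerLeft_fst]
  exact fam_eq_one φ e he hJ hN _ (snd _ _ ≫ toPtQ I)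

variable (h) in
/-- all points over `E` -/
lemma comp_fam_eq_one_of [IsMonHom h] [IsSeparated G.hom] {E : Type u} [CommRing E] [Algebra C E]
    [IsLocalRing E] (I : Ideal E) (hI : I * I = ⊥)
    (hab : (Red.DS (Spec (CommRingCat.of C)) M' ◁ redMap (Spec.map (CommRingCat.ofHom (algebraMap C E)) :
      Spec (CommRingCat.of E) ⟶ Spec (CommRingCat.of C)) I) ≫ fam h φ (Over.mk _) =
    (Red.DS (Spec (CommRingCat.of C)) M' ◁ redMap (Spec.map (CommRingCat.ofHom (algebraMap C E)) :
      Spec (CommRingCat.of E) ⟶ Spec (CommRingCat.of C)) I) ≫ 1)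
    {T : Over (Spec (CommRingCat.of C))} (q : T ⟶ Red.DS (Spec (CommRingCat.of C)) M') (t : T ⟶ pt C E) :
    q ≫ Red.DSmap _ φ ≫ h = 1 := by
  obtain ⟨w, -, hw⟩ := infConj_family (Spec.map (CommRingCat.ofHom (algebraMap C E)) :
      Spec (CommRingCat.of E) ⟶ Spec (CommRingCat.of C)) G I hI
    (Groth.Agent.Sga3B.LocalLift.hasAffineUnitNhd_of_isLocalRing _) (fam h φ _) 1
    (isHomFamily_fam φ _) (isHomFamily_one _) hab
  have h1 := hw T q t
  rw [comp_one, _root_.mul_one, mul_inv_cancel, fam, lift_fst_assoc] at h1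
  exact h1

lemma charPt_DSmap {E : Type u} [CommRing E] [Algebra C E] (χ : Multiplicative M' →* E) :
    charPt (C := C) χ ≫ Red.DSmap _ φ = charPt (χ.comp (AddMonoidHom.toMultiplicative φ)) := by
  unfold charPt
  rw [dsEquiv_DSmap]
  rfl

include he in
lemma triv_of_all (hJ : IsIdealOf h J) {E : Type u} [CommRing E] [Algebra C E]
    (hall : ∀ {T : Over (Spec (CommRingCat.of C))} (q : T ⟶ Red.DS (Spec (CommRingCat.of C)) M') (_ : T ⟶ pt C E),
      q ≫ Red.DSmap _ φ ≫ h = 1) : Triv C E J N := by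
  have h1 := hall (charPt (C := C) ((MonoidAlgebra.of E (Multiplicative M ⧸ N)).comp e.toMonoidHom))
    (ptMap (IsScalarTower.toAlgHom C E (MonoidAlgebra E (Multiplicative M ⧸ N))))
  rw [← Category.assoc, charPt_DSmap, charPt_iff hJ] at h1
  intro j hj
  have h2 := h1 j hj
  have h3 : ((MonoidAlgebra.of E (Multiplicative M ⧸ N)).comp e.toMonoidHom).comp (AddMonoidHom.toMultiplicative φ) =
      (MonoidAlgebra.of E (Multiplicative M ⧸ N)).comp (QuotientGroup.mk' N) := by
    refine MonoidHom.ext fun m => ?_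
    change MonoidAlgebra.of E (Multiplicative M ⧸ N) (e (Multiplicative.ofAdd (φ m.toAdd))) = _
    rw [he]
    rfl
  rw [h3] at h2
  exact h2

theorem isRig [IsMonHom h] [IsSeparated G.hom] (hJ : IsIdealOf h J) : IsRig J := by
  intro E _ _ _ I hI N hN
  obtain ⟨M', _, φ, e, he⟩ := exists_quo N
  exact triv_of_all φ e he hJ (comp_fam_eq_one_of h φ I hI (red_fam φ e he hJ I hN))

/-- **The kernel of `D(M) ⟶ G` is Zariski-locally diagonalisable.** -/
theorem exists_local (h : Red.DS (Spec (CommRingCat.of C)) M ⟶ G) [IsMonHom h] [AddGroup.FG M] [IsSeparated G.hom]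
    [LocallyOfFiniteType G.hom] (p : Ideal C) [p.IsPrime] :
    ∃ f, f ∉ p ∧ ∃ N : AddSubgroup M, ∀ (T : Over (Spec (CommRingCat.of C))),
      (letI := algT T; IsUnit (algebraMap C Γ(T.left, ⊤) f)) → ∀ x : T ⟶ Red.DS (Spec (CommRingCat.of C)) M,
        x ≫ h = 1 ↔ ∀ n ∈ N, dsChar x (Multiplicative.ofAdd n) = 1 := by
  obtain ⟨J, hfg, hJ⟩ := exists_kerIdeal h
  have : Group.FG (Multiplicative M) := inferInstance
  obtain ⟨f, hf, N, hN⟩ := KerAlg4.exists_local hfg (isKer hJ) (isRig hJ) p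
  refine ⟨f, hf, Subgroup.toAddSubgroup' N, fun T hT x => ?_⟩
  let _ := algT T
  exact (hJ T x).trans (hN Γ(T.left, ⊤) hT (dsChar x))

end Groth.Agent.Sga3.H827.KerLoc
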