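import Groth.Agent.Sga3.H827.KerAlg4
import Groth.Agent.Sga3.H797.HomFin
import Groth.Agent.Sga3B.InfConjFam
import Groth.Agent.Sga3B.LocalLift

/-!
# The ideal of the kernel of a homomorphism `D(M) ⟶ G` over an affine base
-/

set_option autoImplicit false
universe u
open CategoryTheory MonoidalCategory CartesianMonoidalCategory MonObj GrpObj AlgebraicGeometry Limits

namespace Groth.Agent.Sga3.H827.KerPts

open Groth.Agent.Sga3B.DSPts Groth.Agent.Sga3B.InfConj Groth.Agent.Sga3B.InfConjFam KerAlg1 KerAlg4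

section gl

variable {C : Type u} [CommRing C] {A : Type u} [CommRing A] [Algebra C A]

/-- the pullback of functions -/
noncomputable def gl {T : Over (Spec (CommRingCat.of C))} (t : T ⟶ pt C A) : A →+* Γ(T.left, ⊤) :=
  ((Scheme.ΓSpecIso (CommRingCat.of A)).inv ≫ t.left.appTop).hom

lemma gl_ptMap {E : Type u} [CommRing E] [Algebra C E] (φ : A →ₐ[C] E) (a : A) :
    gl (ptMap φ) a = gPt C E (φ a) := gPt_naturality φ a

lemma gPt_injective (C : Type u) [CommRing C] (E : Type u) [CommRing E] [Algebra C E] :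
    Function.Injective (gPt C E) :=
  (ConcreteCategory.bijective_of_isIso (Scheme.ΓSpecIso (CommRingCat.of E)).inv).1

lemma toSpecΓ_gl {T : Over (Spec (CommRingCat.of C))} (t : T ⟶ pt C A) :
    T.left.toSpecΓ ≫ Spec.map (CommRingCat.ofHom (gl t)) = t.left :=
  toSpecΓ_SpecMap_eq (C := A) t.left

/-- **Equalizer ideal.** -/
theorem exists_ideal {G : Over (Spec (CommRingCat.of C))} [IsSeparated G.hom] [LocallyOfFiniteType G.hom]
    (a b : pt C A ⟶ G) :
    ∃ J : Ideal A, J.FG ∧ ∀ (T : Over (Spec (CommRingCat.of C))) (t : T ⟶ pt C A),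
      t ≫ a = t ≫ b ↔ ∀ j ∈ J, gl t j = 0 := by
  obtain ⟨Z, z, hz, hZ, hfp⟩ := H797.HomFin.exists_eq a b
  have hfp := hfp inferInstance
  obtain ⟨I, e, he⟩ := (IsClosedImmersion.Spec_iff (R := CommRingCat.of A) (f := z.left)).1 hz
  refine ⟨I, ?_, fun T t => ?_⟩
  · have h1 : LocallyOfFinitePresentation (Spec.map (CommRingCat.ofHom (Ideal.Quotient.mk I))) := by
      have h2 : Spec.map (CommRingCat.ofHom (Ideal.Quotient.mk I)) = e.inv ≫ z.left := by
        rw [he, Iso.inv_hom_id_assoc]
      rw [h2]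
      infer_instance
    rw [HasRingHomProperty.Spec_iff (P := @LocallyOfFinitePresentation)] at h1
    have h3 : Algebra.FinitePresentation A (A ⧸ I) := h1
    have h4 := Algebra.FinitePresentation.ker_fG_of_surjective (Ideal.Quotient.mkₐ A I)
      (Ideal.Quotient.mkₐ_surjective A I)
    have h5 : RingHom.ker (Ideal.Quotient.mkₐ A I) = I := Ideal.Quotient.mkₐ_ker A I
    exact h5 ▸ h4
  · rw [← hZ]
    constructor
    · rintro ⟨t', rfl⟩ j hj
      have h1 : gl (t' ≫ z) = ((CommRingCat.ofHom (Ideal.Quotient.mk I)) ≫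
          (Scheme.ΓSpecIso (CommRingCat.of (A ⧸ I))).inv ≫ (t'.left ≫ e.hom).appTop).hom := by
        unfold gl
        congr 1
        rw [Over.comp_left, he, ← Category.assoc t'.left, Scheme.Hom.comp_appTop (t'.left ≫ e.hom),
          ← Scheme.ΓSpecIso_inv_naturality_assoc]
      rw [h1]
      change ((Scheme.ΓSpecIso (CommRingCat.of (A ⧸ I))).inv ≫ (t'.left ≫ e.hom).appTop).hom (Ideal.Quotient.mk I j) = 0
      rw [Ideal.Quotient.eq_zero_iff_mem.2 hj, map_zero]
    · intro h
      let ρ : A ⧸ I →+* Γ(T.left, ⊤) := Ideal.Quotient.lift I (gl t) h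
      have h1 : (T.left.toSpecΓ ≫ Spec.map (CommRingCat.ofHom ρ) ≫ e.inv) ≫ z.left = t.left := by
        rw [he, Category.assoc, Category.assoc, Iso.inv_hom_id_assoc, ← Spec.map_comp, ← toSpecΓ_gl t,
          ← CommRingCat.ofHom_comp]
        rfl
      refine ⟨Over.homMk (T.left.toSpecΓ ≫ Spec.map (CommRingCat.ofHom ρ) ≫ e.inv) ?_, ?_⟩
      · rw [← Over.w z, ← Category.assoc, h1, Over.w]
      · ext1
        exact h1

end gl

section ker

variable {C : Type u} [CommRing C]

/-- functions on a scheme over `Spec C` as a `C`-algebra -/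
@[reducible] noncomputable def algT (T : Over (Spec (CommRingCat.of C))) : Algebra C Γ(T.left, ⊤) :=
  ((Scheme.ΓSpecIso (.of C)).inv ≫ T.hom.appTop).hom.toAlgebra

lemma gl_algebraMap {A : Type u} [CommRing A] [Algebra C A] {T : Over (Spec (CommRingCat.of C))} (t : T ⟶ pt C A)
    (c : C) : gl t (algebraMap C A c) = letI := algT T; algebraMap C Γ(T.left, ⊤) c := by
  change ((Scheme.ΓSpecIso (CommRingCat.of A)).inv ≫ t.left.appTop).hom ((CommRingCat.ofHom (algebraMap C A)).hom c) =
    ((Scheme.ΓSpecIso (.of C)).inv ≫ T.hom.appTop).hom c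
  rw [← Over.w t, Scheme.Hom.comp_appTop]
  have h3 := Scheme.ΓSpecIso_inv_naturality (CommRingCat.ofHom (algebraMap C A))
  exact congr(($h3 ≫ t.left.appTop).hom c)

variable {M : Type} [AddCommGroup M]

lemma gl_single {T : Over (Spec (CommRingCat.of C))} (t : T ⟶ pt C (MonoidAlgebra C (Multiplicative M)))
    (j : MonoidAlgebra C (Multiplicative M)) :
    gl t j = letI := algT T; MonoidAlgebra.lift C Γ(T.left, ⊤) (Multiplicative M) (dsChar (t ≫ univPt C M)) j := by
  let _ := algT T
  change gl t j = MonoidAlgebra.lift C Γ(T.left, ⊤) (Multiplicative M) (dsChar (t ≫ univPt C M)) j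
  have h1 : ∀ m : Multiplicative M, dsChar (t ≫ univPt C M) m = gl t (MonoidAlgebra.single m 1) := by
    intro m
    change dsChar (t ≫ dsEquiv _ M _) m = _
    rw [dsChar_comp, dsChar_dsEquiv]
    rfl
  have h2 : ∀ c : C, gl t (algebraMap C _ c) = algebraMap C Γ(T.left, ⊤) c := gl_algebraMap t
  induction j using MonoidAlgebra.induction_linear with
  | zero => simp
  | add x y hx hy => rw [map_add, map_add, hx, hy]
  | single m c =>
    rw [MonoidAlgebra.lift_single, h1, Algebra.smul_def, ← h2, ← map_mul]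
    congr 1
    rw [MonoidAlgebra.coe_algebraMap]
    simp

end ker

end Groth.Agent.Sga3.H827.KerPts
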